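import Groth.Agent.Lib.ConstCat23.Ext
import Groth.Agent.Lib.EtEff25.Local

/-!
# Étale schemes with a transport along the fibres of an integral surjection descend
-/

set_option autoImplicit false
set_option linter.style.haveILetI false
set_option backward.isDefEq.respectTransparency.types false
universe u

open CategoryTheory CategoryTheory.Limits AlgebraicGeometry

namespace Groth.Agent.ConstCat23

/-- An agreement relation on points of `X` along which points of `Z` are transported uniquely with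
constant value in `U`. -/
structure Transport {X Y Z U : Scheme.{u}} (f : X ⟶ Y) (q : Z ⟶ X) (u : Z ⟶ U) where
  Ag : ∀ ⦃T : Scheme.{u}⦄, (T ⟶ X) → (T ⟶ X) → Prop
  comp : ∀ ⦃T T' : Scheme.{u}⦄ (c : T' ⟶ T) (a b : T ⟶ X), Ag a b → Ag (c ≫ a) (c ≫ b)
  refl : ∀ ⦃T : Scheme.{u}⦄ (a : T ⟶ X), Ag a a
  symm : ∀ ⦃T : Scheme.{u}⦄ (a b : T ⟶ X), Ag a b → Ag b a
  trans : ∀ ⦃T : Scheme.{u}⦄ (a b c : T ⟶ X), Ag a b → Ag b c → Ag a c
  equ : ∀ ⦃T : Scheme.{u}⦄ (a b : T ⟶ X), a ≫ f = b ≫ f →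
    ∃ (E : Scheme.{u}) (i : E ⟶ T), IsClosedImmersion i ∧ Surjective i ∧ Ag (i ≫ a) (i ≫ b)
  lift : ∀ ⦃T : Scheme.{u}⦄ (a b : T ⟶ X), Ag a b → ∀ za : T ⟶ Z, za ≫ q = a →
    ∃! zb : T ⟶ Z, zb ≫ q = b ∧ zb ≫ u = za ≫ u

namespace Transport

variable {X Y Z U : Scheme.{u}} {f : X ⟶ Y} {q : Z ⟶ X} {u : Z ⟶ U} (D : Transport f q u)

/-- `w` is the transport of `v`. -/
def R {T : Scheme.{u}} (x₀ x₁ : T ⟶ X) (v w : T ⟶ Z) : Prop :=
  ∀ ⦃T' : Scheme.{u}⦄ (c : T' ⟶ T), D.Ag (c ≫ x₀) (c ≫ x₁) → c ≫ w ≫ u = c ≫ v ≫ u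

variable {T : Scheme.{u}} {x₀ x₁ x₂ : T ⟶ X} {v w w' : T ⟶ Z}

variable [Etale q] [IsSeparated q]

/-- It is enough to be a transport on a surjective piece. -/
theorem R_of (hv : v ≫ q = x₀) (hw : w ≫ q = x₁) {E : Scheme.{u}} (i : E ⟶ T) [Surjective i]
    (hA : D.Ag (i ≫ x₀) (i ≫ x₁)) (h : i ≫ w ≫ u = i ≫ v ≫ u) : D.R x₀ x₁ v w := by
  intro T' c hc
  obtain ⟨z, ⟨hzq, hzu⟩, -⟩ := D.lift _ _ hc (c ≫ v) (by rw [Category.assoc, hv])
  haveI : Surjective (pullback.fst c i) := MorphismProperty.pullback_fst _ _ ‹_›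
  let k := pullback.fst c i
  let l := pullback.snd c i
  have hkl : k ≫ c = l ≫ i := pullback.condition
  have hA' : D.Ag (k ≫ c ≫ x₀) (k ≫ c ≫ x₁) := D.comp k _ _ hc
  have e : k ≫ z = k ≫ c ≫ w := by
    refine (D.lift _ _ hA' (k ≫ c ≫ v) (by rw [Category.assoc, Category.assoc, hv])).unique
      ⟨by rw [Category.assoc, hzq], by rw [Category.assoc, hzu]; simp⟩ ⟨?_, ?_⟩
    · rw [Category.assoc, Category.assoc, hw]
    · simp only [Category.assoc]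
      rw [reassoc_of% hkl, reassoc_of% hkl, h]
  have hz : z = c ≫ w := eq_of_comp_surjective (i := k) (q := q) (by rw [hzq, Category.assoc, hw]) e
  rw [← Category.assoc, ← hz, hzu, Category.assoc]

theorem R_unique (h : x₀ ≫ f = x₁ ≫ f) (hv : v ≫ q = x₀) (hw : w ≫ q = x₁) (hw' : w' ≫ q = x₁)
    (hR : D.R x₀ x₁ v w) (hR' : D.R x₀ x₁ v w') : w = w' := by
  obtain ⟨E, i, _, _, hA⟩ := D.equ x₀ x₁ h
  refine eq_of_comp_surjective (i := i) (q := q) (hw.trans hw'.symm) ?_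
  refine (D.lift _ _ hA (i ≫ v) (by rw [Category.assoc, hv])).unique ⟨?_, ?_⟩ ⟨?_, ?_⟩
  · rw [Category.assoc, hw]
  · rw [Category.assoc, Category.assoc, hR i hA]
  · rw [Category.assoc, hw']
  · rw [Category.assoc, Category.assoc, hR' i hA]

theorem exists_R (h : x₀ ≫ f = x₁ ≫ f) (hv : v ≫ q = x₀) :
    ∃ w : T ⟶ Z, w ≫ q = x₁ ∧ D.R x₀ x₁ v w := by
  obtain ⟨E, i, _, _, hA⟩ := D.equ x₀ x₁ h
  obtain ⟨zb, ⟨hzq, hzu⟩, -⟩ := D.lift _ _ hA (i ≫ v) (by rw [Category.assoc, hv])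
  obtain ⟨w, ⟨hwq, hiw⟩, -⟩ := existsUnique_lift (i := i) (q := q) x₁ zb hzq
  exact ⟨w, hwq, D.R_of hv hwq i hA (by rw [← Category.assoc, hiw, hzu, Category.assoc])⟩

theorem R_self : D.R x₀ x₀ v v := fun _ _ _ => rfl

theorem R_trans (h₀₁ : x₀ ≫ f = x₁ ≫ f) (hv : v ≫ q = x₀) (hw' : w' ≫ q = x₂)
    (hR : D.R x₀ x₁ v w) (hR' : D.R x₁ x₂ w w') (h₁₂ : x₁ ≫ f = x₂ ≫ f) : D.R x₀ x₂ v w' := by
  obtain ⟨E, i, _, _, hA⟩ := D.equ x₀ x₁ h₀₁
  obtain ⟨E', i', _, _, hA'⟩ := D.equ x₁ x₂ h₁₂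
  let j := pullback.fst i i' ≫ i
  haveI : Surjective (pullback.fst i i') := MorphismProperty.pullback_fst _ _ ‹_›
  haveI : Surjective j := inferInstanceAs (Surjective (pullback.fst i i' ≫ i))
  have e₁ : D.Ag (j ≫ x₀) (j ≫ x₁) := by
    have := D.comp (pullback.fst i i') _ _ hA
    simpa only [j, Category.assoc] using this
  have e₂ : D.Ag (j ≫ x₁) (j ≫ x₂) := by
    have := D.comp (pullback.snd i i') _ _ hA'
    simpa only [j, pullback.condition, Category.assoc] using this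
  exact D.R_of hv hw' j (D.trans _ _ _ e₁ e₂) ((hR' j e₂).trans (hR j e₁))

/-- The transported point. -/
noncomputable def move (x₀ x₁ : T ⟶ X) (h : x₀ ≫ f = x₁ ≫ f) (v : Desc.Lifts (Over.mk q) x₀) :
    Desc.Lifts (Over.mk q) x₁ :=
  ⟨(D.exists_R (v := v.1) h v.2).choose, (D.exists_R (v := v.1) h v.2).choose_spec.1⟩

theorem R_move (x₀ x₁ : T ⟶ X) (h : x₀ ≫ f = x₁ ≫ f) (v : Desc.Lifts (Over.mk q) x₀) :
    D.R x₀ x₁ v.1 (D.move x₀ x₁ h v).1 :=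
  (D.exists_R (v := v.1) h v.2).choose_spec.2

theorem move_move (x₀ x₁ x₂ : T ⟶ X) (h₀₁ : x₀ ≫ f = x₁ ≫ f) (h₁₂ : x₁ ≫ f = x₂ ≫ f)
    (v : Desc.Lifts (Over.mk q) x₀) :
    D.move x₁ x₂ h₁₂ (D.move x₀ x₁ h₀₁ v) = D.move x₀ x₂ (h₀₁.trans h₁₂) v :=
  Subtype.ext (D.R_unique (h₀₁.trans h₁₂) v.2 (D.move x₁ x₂ h₁₂ _).2 (D.move x₀ x₂ _ v).2
    (D.R_trans h₀₁ v.2 (D.move x₁ x₂ h₁₂ _).2 (D.R_move x₀ x₁ h₀₁ v) (D.R_move x₁ x₂ h₁₂ _) h₁₂)
    (D.R_move x₀ x₂ _ v))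

theorem move_self (x : T ⟶ X) (v : Desc.Lifts (Over.mk q) x) : D.move x x rfl v = v :=
  Subtype.ext (D.R_unique rfl v.2 (D.move x x rfl v).2 v.2 (D.R_move x x rfl v) D.R_self)

/-- The descent datum of a transport. -/
noncomputable def datum : Desc.SchDD f where
  obj := Over.mk q
  φ _ x₀ x₁ h :=
    { toFun := D.move x₀ x₁ h
      invFun := D.move x₁ x₀ h.symm
      left_inv := fun v => (D.move_move x₀ x₁ x₀ h h.symm v).trans (D.move_self x₀ v)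
      right_inv := fun v => (D.move_move x₁ x₀ x₁ h.symm h v).trans (D.move_self x₁ v) }
  φ_natural T T' g x₀ x₁ h h' v v' hv' := by
    show (D.move (g ≫ x₀) (g ≫ x₁) h' v').1 = g ≫ (D.move x₀ x₁ h v).1
    refine D.R_unique h' v'.2 (D.move _ _ h' v').2 ?_ (D.R_move _ _ h' v') ?_
    · exact (Category.assoc _ _ _).trans (congrArg (g ≫ ·) (D.move x₀ x₁ h v).2)
    · intro T'' c hc
      have := D.R_move x₀ x₁ h v (c ≫ g) (by simpa only [Category.assoc] using hc)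
      rw [hv']
      simpa only [Category.assoc] using this
  φ_self _ x v := D.move_self x v
  φ_comp _ x₀ x₁ x₂ h₀₁ h₁₂ v := D.move_move x₀ x₁ x₂ h₀₁ h₁₂ v

/-- Étale locally on the base there is a section with fibrewise constant value. -/
theorem exists_local_section [IsIntegralHom f] [Surjective f] (y : Y) (hy : ∃ p, f (q p) = y) :
    ∃ (C : Scheme.{u}) (c : C ⟶ Y), IsAffine C ∧ Etale c ∧ y ∈ Set.range c ∧
      ∃ s : pullback f c ⟶ Z, s ≫ q = pullback.fst f c ∧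
        ∀ ⦃T : Scheme.{u}⦄ (a b : T ⟶ pullback f c), a ≫ pullback.snd f c = b ≫ pullback.snd f c →
          D.Ag (a ≫ pullback.fst f c) (b ≫ pullback.fst f c) → a ≫ s ≫ u = b ≫ s ≫ u := by
  haveI : IsSeparated D.datum.obj.hom := ‹IsSeparated q›
  haveI : Etale D.datum.obj.hom := ‹Etale q›
  obtain ⟨U', hU's, hU'e, -, ⟨e⟩⟩ := EtEff25.exists_effective_of_hensLift D.datum inferInstance
    inferInstance (EtEff25.hensLift_of_integral f)
  let z : pullback f U'.hom ⟶ Z := e.hom.hom.left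
  have hz : z ≫ q = pullback.fst f U'.hom := Over.w e.hom.hom
  let z' : Z ⟶ pullback f U'.hom := e.inv.hom.left
  have hzz : z' ≫ z = 𝟙 Z := congrArg (fun b : D.datum ⟶ D.datum => b.hom.left) e.inv_hom_id
  obtain ⟨p, hp⟩ := hy
  let y' : U'.left := pullback.snd f U'.hom (z' p)
  have hy' : U'.hom y' = y := by
    have e₁ : z' ≫ pullback.snd f U'.hom ≫ U'.hom = q ≫ f := by
      rw [← pullback.condition, ← hz, Category.assoc, reassoc_of% hzz]
    show U'.hom (pullback.snd f U'.hom (z' p)) = y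
    rw [← hp, ← Scheme.Hom.comp_apply, ← Scheme.Hom.comp_apply, e₁, Scheme.Hom.comp_apply]
  obtain ⟨O, hO, hy'O, -⟩ := exists_isAffineOpen_mem_and_subset (X := U'.left) (x := y') (U := ⊤) trivial
  let c : O.toScheme ⟶ Y := O.ι ≫ U'.hom
  haveI : Etale c := inferInstanceAs (Etale (O.ι ≫ U'.hom))
  let k : pullback f c ⟶ pullback f U'.hom :=
    pullback.map f c f U'.hom (𝟙 X) O.ι (𝟙 Y) (by simp) (by simp [c])
  have hk₁ : k ≫ pullback.fst f U'.hom = pullback.fst f c :=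
    (pullback.lift_fst _ _ _).trans (Category.comp_id _)
  have hk₂ : k ≫ pullback.snd f U'.hom = pullback.snd f c ≫ O.ι := pullback.lift_snd _ _ _
  refine ⟨O.toScheme, c, hO, inferInstance, ⟨⟨y', hy'O⟩, ?_⟩, k ≫ z, by rw [Category.assoc, hz, hk₁], ?_⟩
  · show c ⟨y', hy'O⟩ = y
    rw [Scheme.Hom.comp_apply]; exact hy'
  intro T a b hab hA
  let x₀ := a ≫ pullback.fst f c
  let x₁ := b ≫ pullback.fst f c
  have h : x₀ ≫ f = x₁ ≫ f := by
    simp only [x₀, x₁, Category.assoc, pullback.condition, reassoc_of% hab]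
  let v : Desc.Lifts ((Desc.toDD f).obj U').obj x₀ :=
    ⟨a ≫ k, (Category.assoc _ _ _).trans (congrArg (a ≫ ·) hk₁)⟩
  let w : Desc.Lifts D.datum.obj x₀ :=
    ⟨(a ≫ k) ≫ z, by
      show ((a ≫ k) ≫ z) ≫ q = x₀
      rw [Category.assoc, hz, Category.assoc, hk₁]⟩
  have hc : (D.move x₀ x₁ h w).1 = (Desc.canMap f U' x₀ x₁ h v).1 ≫ z :=
    e.hom.comm x₀ x₁ h v w rfl
  have hb : (Desc.canMap f U' x₀ x₁ h v).1 = b ≫ k := by
    rw [Desc.canMap_val]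
    apply pullback.hom_ext
    · rw [pullback.lift_fst, Category.assoc, hk₁]
    · rw [pullback.lift_snd]
      show (a ≫ k) ≫ pullback.snd f U'.hom = (b ≫ k) ≫ pullback.snd f U'.hom
      rw [Category.assoc, Category.assoc, hk₂, reassoc_of% hab]
  rw [hb] at hc
  have := D.R_move x₀ x₁ h w (𝟙 T) (by simpa only [Category.id_comp] using hA)
  rw [Category.id_comp, Category.id_comp, hc] at this
  have h' : ((a ≫ k) ≫ z) ≫ u = ((b ≫ k) ≫ z) ≫ u := this.symm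
  simpa only [Category.assoc] using h'

end Transport

end Groth.Agent.ConstCat23
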