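import Groth.Agent.Lib.EtEff25.Extend

/-!
# Sections of separated étale schemes extend uniquely along surjective closed immersions
-/

set_option autoImplicit false
set_option linter.style.haveILetI false
universe u

open CategoryTheory CategoryTheory.Limits AlgebraicGeometry

namespace Groth.Agent.ConstCat23

variable {E T Z X : Scheme.{u}} {i : E ⟶ T} {q : Z ⟶ X}

theorem eq_of_comp_surjective [Surjective i] [Etale q] {a b : T ⟶ Z} (h : a ≫ q = b ≫ q)
    (h' : i ≫ a = i ≫ b) : a = b := by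
  let P := pullback.lift a b h
  have hP : ∀ t, P t ∈ Set.range (pullback.diagonal q) := fun t => by
    obtain ⟨e, rfl⟩ := i.surjective t
    refine ⟨(i ≫ a) e, ?_⟩
    rw [← Scheme.Hom.comp_apply, ← Scheme.Hom.comp_apply i P]
    refine congrArg (fun m : E ⟶ _ => m e) ?_
    apply pullback.hom_ext
    · simp [P, pullback.lift_fst]
    · simp [P, h', pullback.lift_snd]
  let c := IsOpenImmersion.lift (pullback.diagonal q) P (by rintro _ ⟨t, rfl⟩; exact hP t)
  have hc : c ≫ pullback.diagonal q = P := IsOpenImmersion.lift_fac _ _ _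
  have h1 := congrArg (· ≫ pullback.fst q q) hc
  have h2 := congrArg (· ≫ pullback.snd q q) hc
  simp only [Category.assoc, pullback.diagonal_fst, pullback.diagonal_snd, Category.comp_id, P,
    pullback.lift_fst, pullback.lift_snd] at h1 h2
  rw [← h1, ← h2]

theorem finiteClopenLift_of_surjective {Z₀ W : Scheme.{u}} (j : Z₀ ⟶ W) [Surjective j] :
    EtEff25.FiniteClopenLift j := by
  intro W' π _ V hV
  have hall : ∀ x, x ∈ π ⁻¹' Set.range j := fun x => j.surjective (π x)
  let e : W' → (π ⁻¹' Set.range j : Set W') := fun x => ⟨x, hall x⟩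
  have he : Continuous e := continuous_id.subtype_mk _
  refine ⟨e ⁻¹' V, ⟨hV.preimage he, by ext x; rfl⟩, ?_⟩
  rintro U ⟨-, hU⟩
  subst hU
  ext x
  rfl

/-- Sections extend uniquely. -/
theorem existsUnique_lift [IsClosedImmersion i] [Surjective i] [Etale q] [IsSeparated q]
    (b : T ⟶ X) (s : E ⟶ Z) (hs : s ≫ q = i ≫ b) : ∃! w : T ⟶ Z, w ≫ q = b ∧ i ≫ w = s := by
  let 𝒰 := T.affineCover
  have key : ∀ j, ∃ w : 𝒰.X j ⟶ Z, w ≫ q = 𝒰.f j ≫ b ∧
      pullback.fst (𝒰.f j) i ≫ w = pullback.snd (𝒰.f j) i ≫ s := by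
    intro j
    haveI : IsAffine (𝒰.X j) := inferInstanceAs (IsAffine (Spec _))
    let ij := pullback.fst (𝒰.f j) i
    haveI : IsClosedImmersion ij := MorphismProperty.pullback_fst _ _ ‹_›
    haveI : Surjective ij := MorphismProperty.pullback_fst _ _ ‹_›
    let p := pullback.fst (𝒰.f j ≫ b) q
    let σ : pullback (𝒰.f j) i ⟶ pullback (𝒰.f j ≫ b) q :=
      pullback.lift ij (pullback.snd (𝒰.f j) i ≫ s) (by
        rw [Category.assoc, hs, ← Category.assoc ij, pullback.condition, Category.assoc])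
    obtain ⟨t, ht, hit⟩ := EtEff25.exists_section_extension (finiteClopenLift_of_surjective ij) p σ
      (pullback.lift_fst _ _ _)
    refine ⟨t ≫ pullback.snd (𝒰.f j ≫ b) q, ?_, ?_⟩
    · rw [Category.assoc, ← pullback.condition, ← Category.assoc, ht, Category.id_comp]
    · rw [← Category.assoc, hit, pullback.lift_snd]
  choose w hwq hwi using key
  have hcompat : ∀ x y, pullback.fst (𝒰.f x) (𝒰.f y) ≫ w x = pullback.snd _ _ ≫ w y := by
    intro x y
    let c := pullback.fst (𝒰.f x) (𝒰.f y) ≫ 𝒰.f x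
    haveI : Surjective (pullback.fst c i) := MorphismProperty.pullback_fst _ _ ‹_›
    refine eq_of_comp_surjective (i := pullback.fst c i) (q := q) ?_ ?_
    · rw [Category.assoc, hwq, Category.assoc, hwq, ← Category.assoc, pullback.condition, Category.assoc]
    · have e₁ : (pullback.fst c i ≫ pullback.fst (𝒰.f x) (𝒰.f y)) ≫ 𝒰.f x = pullback.snd c i ≫ i := by
        rw [Category.assoc]; exact pullback.condition
      have e₂ : (pullback.fst c i ≫ pullback.snd (𝒰.f x) (𝒰.f y)) ≫ 𝒰.f y = pullback.snd c i ≫ i := by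
        rw [Category.assoc, ← pullback.condition (f := 𝒰.f x)]; exact pullback.condition
      have hx := congrArg (pullback.lift _ _ e₁ ≫ ·) (hwi x)
      have hy := congrArg (pullback.lift _ _ e₂ ≫ ·) (hwi y)
      rw [pullback.lift_fst_assoc, pullback.lift_snd_assoc, Category.assoc] at hx hy
      exact hx.trans hy.symm
  let W := 𝒰.glueMorphisms w hcompat
  have hW : ∀ j, 𝒰.f j ≫ W = w j := fun j => Scheme.Cover.ι_glueMorphisms _ _ _ j
  have h₁ : W ≫ q = b := Scheme.Cover.hom_ext 𝒰 _ _ fun j => by rw [← Category.assoc, hW, hwq]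
  have h₂ : i ≫ W = s := by
    refine Scheme.Cover.hom_ext (𝒰.pullback₁ i) _ _ fun j => ?_
    show pullback.fst i (𝒰.f j) ≫ i ≫ W = pullback.fst i (𝒰.f j) ≫ s
    have hh := congrArg ((pullbackSymmetry i (𝒰.f j)).hom ≫ ·) (hwi j)
    simp only [pullbackSymmetry_hom_comp_fst_assoc, pullbackSymmetry_hom_comp_snd_assoc] at hh
    rw [← hh, pullback.condition_assoc, hW]
  exact ⟨W, ⟨h₁, h₂⟩, fun w' hw' => eq_of_comp_surjective (i := i) (q := q) (hw'.1.trans h₁.symm) (hw'.2.trans h₂.symm)⟩

end Groth.Agent.ConstCat23
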