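import Groth.Agent.Lib.Quot16.Coarse
import Groth.Prelude.Def_FibCat2

/-!
# Base change of the quotient of `[X/G]` along a morphism to the quotient
-/

set_option autoImplicit false
set_option linter.style.haveILetI false
set_option linter.unusedSectionVars false
set_option backward.isDefEq.respectTransparency false
set_option backward.isDefEq.respectTransparency.types false
universe u

open CategoryTheory CategoryTheory.Limits MonoidalCategory CartesianMonoidalCategory MonObj GrpObj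
  AlgebraicGeometry Opposite AlgSt

namespace Groth.Agent.ConstCat23

open Groth.Agent.Quot16 hiding map_map
open FC16 (pval pval_nat pval_hom)

variable {S : Scheme.{u}} {G : Over S} [GrpObj G] {X Y Y' X' : Over S} {aX : AlgGrp.Action G X}
  {f : X ⟶ Y} {g : Y' ⟶ Y} {p₁ : X' ⟶ X} {p₂ : X' ⟶ Y'}

variable (aX p₁ p₂) in
/-- Two points of the base change differing by a point of the group. -/
def Rel {T : Over S} (x₁ x₂ : T ⟶ X') : Prop :=
  x₁ ≫ p₂ = x₂ ≫ p₂ ∧ ∃ σ : T ⟶ G, lift σ (x₂ ≫ p₁) ≫ aX.act = x₁ ≫ p₁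

variable {π : QuotSt Scheme.fppfPrecoverage G aX ⥤ᵇ ofSch Y}

/-- A morphism of the fibre product. -/
noncomputable def mkHom {z z' : (FibCat.fp (ofSpMap ((AlgSp.yon S).map g)) π).obj} (α : z.obj.fst ⟶ z'.obj.fst) (β : z.obj.snd ⟶ z'.obj.snd)
    (h : α.hom ≫ z'.obj.iso.hom.hom = z.obj.iso.hom.hom ≫ (π.map β).hom) : z ⟶ z' :=
  ObjectProperty.homMk { fst := α, snd := β, w := Stk.EltObj.hom_ext h }

/-- The base of the object of the quotient stack in an object of the fibre product. -/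
theorem base_snd (z : (FibCat.fp (ofSpMap ((AlgSp.yon S).map g)) π).obj) : z.obj.snd.base = z.obj.fst.base :=
  ((FibCat.fpSnd (ofSpMap ((AlgSp.yon S).map g)) π).w_obj z)

theorem iso_hom (z : (FibCat.fp (ofSpMap ((AlgSp.yon S).map g)) π).obj) : z.obj.iso.hom.hom =
    eqToHom ((base_snd z).symm.trans (π.w_obj z.obj.snd).symm) := by
  have hl : (ofSch Y).p.IsHomLift (𝟙 z.obj.fst.base) z.obj.iso.hom := z.property
  have e := IsHomLift.fac' (ofSch Y).p (𝟙 z.obj.fst.base) z.obj.iso.hom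
  refine (show z.obj.iso.hom.hom = _ from e).trans ?_
  simp

theorem map_hom {A B : QuotObj Scheme.fppfPrecoverage G aX} (β : A ⟶ B) :
    (π.map β).hom = eqToHom (π.w_obj A) ≫ β.base ≫ eqToHom (π.w_obj B).symm :=
  Functor.congr_hom π.w β

/-- Morphisms of the fibre product from compatible morphisms. -/
theorem exists_hom {z z' : (FibCat.fp (ofSpMap ((AlgSp.yon S).map g)) π).obj} (α : z.obj.fst ⟶ z'.obj.fst) (β : z.obj.snd ⟶ z'.obj.snd)
    (h : β.base = eqToHom (base_snd z) ≫ α.hom ≫ eqToHom (base_snd z').symm) :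
    ∃ k : z ⟶ z', k.hom.fst = α ∧ k.hom.snd = β :=
  ⟨mkHom α β (by rw [iso_hom, iso_hom, map_hom, h]; simp), rfl, rfl⟩

/-- The point of `Y` under an object of the fibre product. -/
theorem pval_snd (z : (FibCat.fp (ofSpMap ((AlgSp.yon S).map g)) π).obj) :
    pval π z.obj.snd = ⟨eqToHom (base_snd z) ≫ z.obj.fst.sec.down ≫ g⟩ := by
  have e := z.obj.iso.hom.map_sec
  rw [iso_hom] at e
  unfold pval
  have e' : ((AlgSp.yon S).obj Y).obj.map (eqToHom ((base_snd z).symm.trans (π.w_obj z.obj.snd).symm)).op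
      (π.obj z.obj.snd).sec = ⟨z.obj.fst.sec.down ≫ g⟩ := e
  refine ULift.ext _ _ ?_
  have e'' : eqToHom ((base_snd z).symm.trans (π.w_obj z.obj.snd).symm) ≫ (π.obj z.obj.snd).sec.down =
      z.obj.fst.sec.down ≫ g := congrArg ULift.down e'
  show eqToHom (π.w_obj z.obj.snd).symm ≫ (π.obj z.obj.snd).sec.down = _
  rw [← e'', eqToHom_trans_assoc]

/-- The chart of the fibre product. -/
theorem exists_chart (hsq : IsPullback p₁ p₂ f g)
    (hπ : BasedFunctor.comp (quotMap Scheme.fppfPrecoverage G aX) π = ofSpMap ((AlgSp.yon S).map f)) :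
    Nonempty (BasedFunctor.comp (ofSpMap ((AlgSp.yon S).map p₂)) (ofSpMap ((AlgSp.yon S).map g)) ≅
      BasedFunctor.comp (BasedFunctor.comp (ofSpMap ((AlgSp.yon S).map p₁))
        (quotMap Scheme.fppfPrecoverage G aX)) π) := by
  refine ⟨eqToIso ?_⟩
  refine Eq.trans ?_ (show BasedFunctor.comp (ofSpMap ((AlgSp.yon S).map p₁))
    (BasedFunctor.comp (quotMap Scheme.fppfPrecoverage G aX) π) = _ from rfl)
  rw [hπ]
  refine ofPsh_functor_ext _ _ fun a => ?_
  rw [StAlg.pval_ofPshMap, StAlg.pval_ofPshMap, StAlg.pval_ofPshMap', StAlg.pval_ofPshMap']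
  exact ULift.ext _ _ (((Category.assoc _ _ _).trans (congrArg (a.sec.down ≫ ·) hsq.w.symm)).trans
    (Category.assoc _ _ _).symm)

/-- Values of a composite functor. -/
theorem pval_comp_left {𝒜 ℬ : BasedCategory.{u, u + 1} (Over S)} {M : AlgSp.Sp S} (Φ : 𝒜 ⥤ᵇ ℬ)
    (s : ℬ ⥤ᵇ ofSp M) (a : 𝒜.obj) :
    pval (BasedFunctor.comp Φ s) a = M.obj.map (eqToHom (Φ.w_obj a).symm).op (pval s (Φ.obj a)) := by
  unfold pval
  refine Eq.trans ?_ (Quot16.map_map (M := M) _ _ _).symm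
  show M.obj.map _ (s.obj (Φ.obj a)).sec = M.obj.map _ (s.obj (Φ.obj a)).sec
  congr 2
  rw [eqToHom_trans]

theorem eqToHom_op_apply {M : AlgSp.Sp S} {T : Over S} (e : T = T) (v : M.obj.obj (op T)) :
    M.obj.map (eqToHom e).op v = v := by
  rw [show eqToHom e = 𝟙 T from rfl, op_id, Functor.map_id_apply]

theorem pval_qm (i : BasedFunctor.comp (ofSpMap ((AlgSp.yon S).map p₂)) (ofSpMap ((AlgSp.yon S).map g)) ≅
      BasedFunctor.comp (BasedFunctor.comp (ofSpMap ((AlgSp.yon S).map p₁))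
        (quotMap Scheme.fppfPrecoverage G aX)) π)
    {N : AlgSp.Sp S} (φ : (FibCat.fp (ofSpMap ((AlgSp.yon S).map g)) π) ⥤ᵇ ofSp N) {T : Over S} (x : T ⟶ X') :
    pval (BasedFunctor.comp (FibCat.fpLift (ofSpMap ((AlgSp.yon S).map p₂))
      (BasedFunctor.comp (ofSpMap ((AlgSp.yon S).map p₁)) (quotMap Scheme.fppfPrecoverage G aX)) i) φ)
        (⟨T, ⟨x⟩⟩ : (ofSch X').obj) =
      pval φ ((FibCat.fpLift (ofSpMap ((AlgSp.yon S).map p₂))
      (BasedFunctor.comp (ofSpMap ((AlgSp.yon S).map p₁)) (quotMap Scheme.fppfPrecoverage G aX)) i).obj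
        (⟨T, ⟨x⟩⟩ : (ofSch X').obj)) :=
  (pval_comp_left _ φ _).trans (eqToHom_op_apply (M := N) (T := T) rfl _)

variable [Flat G.hom] [LocallyOfFinitePresentation G.hom]

theorem isCoarseModuli_fpFst (hsq : IsPullback p₁ p₂ f g)
    (hπ : BasedFunctor.comp (quotMap Scheme.fppfPrecoverage G aX) π = ofSpMap ((AlgSp.yon S).map f))
    (horb : ∀ (Ω : Type u) [Field Ω] [IsAlgClosed Ω] (t : Spec (CommRingCat.of Ω) ⟶ S),
      (∀ y : Over.mk t ⟶ Y, ∃ x : Over.mk t ⟶ X, x ≫ f = y) ∧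
      (∀ x x' : Over.mk t ⟶ X, x ≫ f = x' ≫ f → ∃ k : Over.mk t ⟶ G, lift k x' ≫ aX.act = x))
    (hcat : ∀ (N : AlgSp.Space S) (ψ : (AlgSp.yon S).obj X' ⟶ N.obj),
      (∀ (T : Over S) (x₁ x₂ : T ⟶ X'), Rel aX p₁ p₂ x₁ x₂ →
        (AlgSp.yon S).map x₁ ≫ ψ = (AlgSp.yon S).map x₂ ≫ ψ) →
        ∃! χ : (AlgSp.yon S).obj Y' ⟶ N.obj, (AlgSp.yon S).map p₂ ≫ χ = ψ) :
    IsCoarseModuli (FibCat.fpFst (ofSpMap ((AlgSp.yon S).map g)) π) := by
  obtain ⟨i⟩ := exists_chart (aX := aX) (π := π) hsq hπ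
  let qm := FibCat.fpLift (ofSpMap ((AlgSp.yon S).map p₂))
    (BasedFunctor.comp (ofSpMap ((AlgSp.yon S).map p₁)) (quotMap Scheme.fppfPrecoverage G aX)) i
  let q : ∀ {T : Over S} (x : T ⟶ X'), (FibCat.fp (ofSpMap ((AlgSp.yon S).map g)) π).obj := fun {T} x => qm.obj ⟨T, ⟨x⟩⟩
  -- translated points give isomorphic objects
  have hrel : ∀ {T : Over S} {x₁ x₂ : T ⟶ X'}, Rel aX p₁ p₂ x₁ x₂ →
      ∃ (α : (q x₁).obj.fst ⟶ (q x₂).obj.fst) (β : (q x₁).obj.snd ⟶ (q x₂).obj.snd),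
        α.hom = 𝟙 T ∧ β.base = 𝟙 T := by
    intro T x₁ x₂ h
    obtain ⟨h₂, σ, hσ⟩ := h
    let α : (q x₁).obj.fst ⟶ (q x₂).obj.fst := ⟨𝟙 T, ULift.ext _ _ (by
      show 𝟙 T ≫ x₂ ≫ p₂ = x₁ ≫ p₂
      rw [Category.id_comp, h₂])⟩
    refine ⟨α, homOfPt (triv Scheme.fppfPrecoverage aX (x₂ ≫ p₁)) (lift σ (𝟙 T)) (x := x₁ ≫ p₁) ?_, rfl,
      lift_snd _ _⟩
    show lift σ (𝟙 T) ≫ (G ◁ (x₂ ≫ p₁)) ≫ aX.act = _
    rw [← Category.assoc, lift_whiskerLeft, Category.id_comp, hσ]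
  -- every object is locally in the image
  have hobj : ∀ z : (FibCat.fp (ofSpMap ((AlgSp.yon S).map g)) π).obj, ∃ (x : z.obj.snd.P ⟶ X') (k : q x ⟶ z),
      x ≫ p₂ = z.obj.snd.π ≫ eqToHom (base_snd z) ≫ z.obj.fst.sec.down ∧
        k.hom.fst.hom = z.obj.snd.π ≫ eqToHom (base_snd z) := by
    intro z
    have e : z.obj.snd.φ ≫ f = (z.obj.snd.π ≫ eqToHom (base_snd z) ≫ z.obj.fst.sec.down) ≫ g := by
      have e₁ := pval_nat π (homOfPt z.obj.snd (𝟙 z.obj.snd.P) (x := z.obj.snd.φ) (Category.id_comp _))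
      rw [pval_triv _ π hπ, pval_snd] at e₁
      have e₂ : (𝟙 z.obj.snd.P ≫ z.obj.snd.π) ≫ eqToHom (base_snd z) ≫ z.obj.fst.sec.down ≫ g =
          z.obj.snd.φ ≫ f := congrArg ULift.down e₁
      rw [← e₂]; simp
    let x := hsq.lift _ _ e
    have hx₁ : x ≫ p₁ = z.obj.snd.φ := hsq.lift_fst _ _ _
    have hx₂ : x ≫ p₂ = z.obj.snd.π ≫ eqToHom (base_snd z) ≫ z.obj.fst.sec.down := hsq.lift_snd _ _ _
    let α : (q x).obj.fst ⟶ z.obj.fst := ⟨z.obj.snd.π ≫ eqToHom (base_snd z), ULift.ext _ _ (by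
      show (z.obj.snd.π ≫ eqToHom (base_snd z)) ≫ z.obj.fst.sec.down = x ≫ p₂
      rw [hx₂, Category.assoc])⟩
    let β : (q x).obj.snd ⟶ z.obj.snd := homOfPt z.obj.snd (𝟙 z.obj.snd.P) (x := x ≫ p₁)
      ((Category.id_comp _).trans hx₁.symm)
    obtain ⟨k, hk, -⟩ := exists_hom (z := q x) α β (by
      show 𝟙 _ ≫ z.obj.snd.π = eqToHom _ ≫ (z.obj.snd.π ≫ eqToHom (base_snd z)) ≫ eqToHom _
      simp)
    exact ⟨x, k, hx₂, congrArg Stk.EltObj.Hom.hom hk⟩
  refine ⟨⟨AlgSp.IsAlgSpace.yon_obj Y', fun N hN φ => ?_⟩, fun Ω _ _ t => ?_⟩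
  · let f' : (AlgSp.yon S).obj X' ⟶ N := ObjectProperty.homMk (StAlg.mapOf (BasedFunctor.comp qm φ))
    have hf' : BasedFunctor.comp qm φ = ofSpMap f' := eq_of_iso (StAlg.isoMapOf _)
    have hval : ∀ {T : Over S} (x : T ⟶ X'), f'.hom.app (op T) ⟨x⟩ = pval φ (q x) := by
      intro T x
      have h₁ := congrArg (fun Φ => pval Φ (⟨T, ⟨x⟩⟩ : (ofSch X').obj)) hf'
      exact ((StAlg.pval_ofPshMap' f'.hom _).symm.trans h₁.symm).trans (pval_qm i φ x)
    have hinv : ∀ (T : Over S) (x₁ x₂ : T ⟶ X'), Rel aX p₁ p₂ x₁ x₂ →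
        (AlgSp.yon S).map x₁ ≫ f' = (AlgSp.yon S).map x₂ ≫ f' := by
      intro T x₁ x₂ h
      apply ObjectProperty.hom_ext
      ext W w
      obtain ⟨w⟩ := w
      show f'.hom.app W ⟨w ≫ x₁⟩ = f'.hom.app W ⟨w ≫ x₂⟩
      obtain ⟨W⟩ := W
      rw [hval, hval]
      have h' : Rel aX p₁ p₂ (w ≫ x₁) (w ≫ x₂) := by
        obtain ⟨h₂, σ, hσ⟩ := h
        refine ⟨by rw [Category.assoc, h₂, Category.assoc], w ≫ σ, ?_⟩
        rw [Category.assoc, ← comp_lift, Category.assoc, hσ, Category.assoc]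
      obtain ⟨α, β, hα, hβ⟩ := hrel h'
      obtain ⟨k, hk, -⟩ := exists_hom α β (by rw [hα, hβ]; simp)
      have e := pval_nat φ k
      rw [show (FibCat.fp (ofSpMap ((AlgSp.yon S).map g)) π).p.map k = 𝟙 W from (congrArg Stk.EltObj.Hom.hom hk).trans hα] at e
      refine e.symm.trans ?_
      exact eqToHom_op_apply (M := N) (T := W) rfl _
    obtain ⟨χ, hχ, hχu⟩ := hcat ⟨N, hN⟩ f' hinv
    have key : ∀ χ' : (AlgSp.yon S).obj Y' ⟶ N,
        Nonempty (BasedFunctor.comp (FibCat.fpFst (ofSpMap ((AlgSp.yon S).map g)) π) (ofSpMap χ') ≅ φ) ↔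
          (AlgSp.yon S).map p₂ ≫ χ' = f' := by
      intro χ'
      constructor
      · rintro ⟨j⟩
        apply ObjectProperty.hom_ext
        ext W w
        obtain ⟨w⟩ := w
        obtain ⟨W⟩ := W
        show χ'.hom.app (op W) ⟨w ≫ p₂⟩ = f'.hom.app (op W) ⟨w⟩
        rw [hval, ← pval_hom j.hom (q w)]
        refine ((StAlg.pval_ofPshMap _ χ'.hom (q w)).trans (congrArg (χ'.hom.app _) ?_)).symm
        unfold pval
        refine ULift.ext _ _ ?_
        exact (congrArg (· ≫ w ≫ p₂) (eqToHom_refl W rfl)).trans (Category.id_comp _)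
      · intro h
        refine ⟨eqToIso (ofPsh_functor_ext _ _ fun z => ?_)⟩
        obtain ⟨x, k, hx, hk⟩ := hobj z
        have e₁ : N.obj.map k.hom.fst.hom.op
            (pval (BasedFunctor.comp (FibCat.fpFst (ofSpMap ((AlgSp.yon S).map g)) π) (ofSpMap χ')) z) =
            N.obj.map k.hom.fst.hom.op (pval φ z) := by
          refine (pval_nat (BasedFunctor.comp (FibCat.fpFst (ofSpMap ((AlgSp.yon S).map g)) π)
            (ofSpMap χ')) k).trans (Eq.trans ?_ (pval_nat φ k).symm)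
          refine ((StAlg.pval_ofPshMap _ χ'.hom (q x)).trans ?_).trans (hval x)
          rw [← h]
          refine congrArg (χ'.hom.app _) (ULift.ext _ _ ?_)
          exact (congrArg (· ≫ x ≫ p₂) (eqToHom_refl z.obj.snd.P rfl)).trans (Category.id_comp _)
        rw [hk, ← Quot16.map_map, ← Quot16.map_map] at e₁
        have e₂ := (isSheafFor_singleton_π N z.obj.snd).isSeparatedFor.ext (fun _ _ hh => by
          cases hh; exact e₁)
        exact (N.obj.mapIso (eqToIso (base_snd z)).op).toEquiv.injective e₂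
    exact ⟨χ, (key χ).2 hχ, fun χ' hχ' => hχu χ' ((key χ').1 hχ')⟩
  · obtain ⟨hsurj, hinj⟩ := horb Ω t
    refine ⟨fun m => ?_, fun z z' hzz => ?_⟩
    · obtain ⟨y⟩ := m
      obtain ⟨x₀, hx₀⟩ := hsurj (y ≫ g)
      let x := hsq.lift x₀ y hx₀
      refine ⟨⟨q x, rfl⟩, ULift.ext _ _ ?_⟩
      exact ((congrArg (· ≫ x ≫ p₂) (eqToHom_refl (Over.mk t) rfl)).trans (Category.id_comp _)).trans
        (hsq.lift_snd _ _ _)
    · have base : ∀ w : (FibCat.fp (ofSpMap ((AlgSp.yon S).map g)) π).p.Fiber (Over.mk t), w.1.obj.fst.base = Over.mk t := fun w => w.2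
      have lift' : ∀ w : (FibCat.fp (ofSpMap ((AlgSp.yon S).map g)) π).p.Fiber (Over.mk t), ∃ (x : Over.mk t ⟶ X') (k : q x ⟶ w.1),
          k.hom.fst.hom = eqToHom (base w).symm ∧
            x ≫ p₂ = (AlgSt.fibSec (FibCat.fpFst (ofSpMap ((AlgSp.yon S).map g)) π) w).down := by
        intro w
        obtain ⟨x, k, hx, hk⟩ := hobj w.1
        obtain ⟨σ, hσ⟩ := exists_rational_pt w.1.obj.snd ((base_snd w.1).trans (base w))
        let m := qm.map (⟨σ, rfl⟩ : (⟨Over.mk t, ⟨σ ≫ x⟩⟩ : (ofSch X').obj) ⟶ ⟨w.1.obj.snd.P, ⟨x⟩⟩)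
        have hm : m.hom.fst.hom = σ := rfl
        refine ⟨σ ≫ x, m ≫ k, ?_, ?_⟩
        · show m.hom.fst.hom ≫ k.hom.fst.hom = _
          rw [hm, hk, reassoc_of% hσ]; simp
        · refine Eq.trans ?_ (show eqToHom (base w).symm ≫ w.1.obj.fst.sec.down = _ from rfl)
          rw [Category.assoc, hx, reassoc_of% hσ]; simp
      obtain ⟨x, k, hk, hx⟩ := lift' z
      obtain ⟨x', k', hk', hx'⟩ := lift' z'
      have hxx : x ≫ p₂ = x' ≫ p₂ := hx.trans ((congrArg ULift.down hzz).trans hx'.symm)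
      obtain ⟨σ, hσ⟩ := hinj (x ≫ p₁) (x' ≫ p₁) (by
        rw [Category.assoc, Category.assoc, hsq.w, reassoc_of% hxx])
      obtain ⟨α, β, hα, hβ⟩ := hrel ⟨hxx, σ, hσ⟩
      obtain ⟨r, hr, -⟩ := exists_hom α β (by rw [hα, hβ]; simp)
      -- morphisms of the fibre product with invertible base are invertible
      have hiso : ∀ {a b : (FibCat.fp (ofSpMap ((AlgSp.yon S).map g)) π).obj} (l : a ⟶ b), IsIso l.hom.fst.hom →
          ∃ l' : b ⟶ a, l ≫ l' = 𝟙 a ∧ l' ≫ l = 𝟙 b ∧ l'.hom.fst.hom ≫ l.hom.fst.hom = 𝟙 _ := by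
        intro a b l hl
        have hb : l.hom.snd.base =
            eqToHom (base_snd a) ≫ l.hom.fst.hom ≫ eqToHom (base_snd b).symm := by
          have := Functor.congr_hom (FibCat.fpSnd (ofSpMap ((AlgSp.yon S).map g)) π).w l
          exact this
        haveI : IsIso l.hom.snd.base := by rw [hb]; infer_instance
        haveI := isIso_of_isIso_base l.hom.snd
        let α' : b.obj.fst ⟶ a.obj.fst := ⟨inv l.hom.fst.hom, by
          have := congrArg (((AlgSp.yon S).obj Y').obj.map (inv l.hom.fst.hom).op) l.hom.fst.map_sec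
          refine this.symm.trans (ULift.ext _ _ ?_)
          show inv l.hom.fst.hom ≫ l.hom.fst.hom ≫ b.obj.fst.sec.down = b.obj.fst.sec.down
          rw [IsIso.inv_hom_id_assoc]⟩
        have hinvb : (inv l.hom.snd).base ≫ l.hom.snd.base = 𝟙 _ := by
          rw [← QuotObj.comp_base, IsIso.inv_hom_id]; rfl
        obtain ⟨l', hl', hl''⟩ := exists_hom α' (inv l.hom.snd) (by
          rw [← cancel_mono l.hom.snd.base, hinvb, hb]
          simp [α'])
        refine ⟨l', ?_, ?_, ?_⟩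
        · apply ObjectProperty.hom_ext
          apply CategoricalPullback.hom_ext
          · show l.hom.fst ≫ l'.hom.fst = 𝟙 _
            rw [hl']; exact Stk.EltObj.hom_ext (IsIso.hom_inv_id _)
          · show l.hom.snd ≫ l'.hom.snd = 𝟙 _
            rw [hl'']; exact IsIso.hom_inv_id _
        · apply ObjectProperty.hom_ext
          apply CategoricalPullback.hom_ext
          · show l'.hom.fst ≫ l.hom.fst = 𝟙 _
            rw [hl']; exact Stk.EltObj.hom_ext (IsIso.inv_hom_id _)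
          · show l'.hom.snd ≫ l.hom.snd = 𝟙 _
            rw [hl'']; exact IsIso.inv_hom_id _
        · rw [hl']; exact IsIso.inv_hom_id _
      obtain ⟨kinv, -, -, hkinv⟩ := hiso k (by rw [hk]; infer_instance)
      let l := kinv ≫ r ≫ k'
      have hlh : l.hom.fst.hom = eqToHom (base z) ≫ eqToHom (base z').symm := by
        show kinv.hom.fst.hom ≫ r.hom.fst.hom ≫ k'.hom.fst.hom = _
        rw [hr, hα, hk']
        have : kinv.hom.fst.hom = eqToHom (base z) := by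
          rw [hk] at hkinv
          rw [← cancel_mono (eqToHom (base z).symm)]
          exact hkinv.trans (by simp)
        rw [this]
        exact congrArg (eqToHom (base z) ≫ ·) (Category.id_comp _)
      obtain ⟨l', h₁, h₂, h₃⟩ := hiso l (by rw [hlh]; infer_instance)
      have hlh' : l'.hom.fst.hom = eqToHom (base z') ≫ eqToHom (base z).symm := by
        rw [hlh] at h₃
        rw [← cancel_mono (eqToHom (base z) ≫ eqToHom (base z').symm)]
        exact h₃.trans (by simp)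
      haveI : (FibCat.fp (ofSpMap ((AlgSp.yon S).map g)) π).p.IsHomLift (𝟙 (Over.mk t)) l := IsHomLift.of_fac' _ _ _ z.2 z'.2 (by
        show l.hom.fst.hom = _
        rw [hlh]; simp)
      haveI : (FibCat.fp (ofSpMap ((AlgSp.yon S).map g)) π).p.IsHomLift (𝟙 (Over.mk t)) l' := IsHomLift.of_fac' _ _ _ z'.2 z.2 (by
        show l'.hom.fst.hom = _
        rw [hlh']; simp)
      exact ⟨⟨⟨l, inferInstance⟩, ⟨l', inferInstance⟩, Functor.Fiber.hom_ext h₁, Functor.Fiber.hom_ext h₂⟩⟩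

end Groth.Agent.ConstCat23
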