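import Groth.Agent.Lib.ConstCat23.Main
import Groth.Agent.Lib.ConstCat23.FlatBC

/-!
# The quotient of an affine scheme by a finite group after a flat base change
-/

set_option autoImplicit false
set_option linter.style.haveILetI false
set_option backward.isDefEq.respectTransparency.types false
universe u

open CategoryTheory CategoryTheory.Limits AlgebraicGeometry AlgSp ConstAct
open CartesianMonoidalCategory (lift lift_fst lift_snd)

namespace Groth.Agent.ConstCat23

variable (R : Type u) [CommRing R] (A : Type u) [CommRing A] [Algebra R A]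
  (G : Type u) [Group G] [Fintype G] [DecidableEq G] [MulSemiringAction G A] [SMulCommClass G R A]

theorem isCoarseModuli_fpFst_quotSt [Flat (GR R G).hom] [LocallyOfFinitePresentation (GR R G).hom]
    (π : quotSt R A G Scheme.fppfPrecoverage ⥤ᵇ AlgSt.ofSch (specInv R A G))
    (hπ : BasedFunctor.comp (AlgSt.quotMap Scheme.fppfPrecoverage (GR R G) (gaction R A G)) π =
      AlgSt.ofSpMap ((yon (Spec (CommRingCat.of R))).map (quot R A G)))
    (Y' : Over (Spec (CommRingCat.of R))) [IsAffine Y'.left] (g : Y' ⟶ specInv R A G) [Flat g.left] :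
    AlgSt.IsCoarseModuli (FibCat.fpFst (AlgSt.ofSpMap ((yon (Spec (CommRingCat.of R))).map g)) π) := by
  haveI : IsAffine (specA R A).left := inferInstanceAs (IsAffine (Spec (CommRingCat.of A)))
  haveI : IsAffine (specInv R A G).left := inferInstanceAs (IsAffine (Spec _))
  let P := pullback (quot R A G).left g.left
  let X' : Over (Spec (CommRingCat.of R)) := Over.mk (pullback.fst (quot R A G).left g.left ≫ (X R A).hom)
  let p₁ : X' ⟶ X R A := Over.homMk (pullback.fst (quot R A G).left g.left) rfl
  let p₂ : X' ⟶ Y' := Over.homMk (pullback.snd (quot R A G).left g.left) (by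
    show pullback.snd (quot R A G).left g.left ≫ Y'.hom = pullback.fst (quot R A G).left g.left ≫ (specA R A).hom
    rw [← Over.w (quot R A G), ← Over.w g, pullback.condition_assoc])
  have hsq : IsPullback p₁ p₂ (quot R A G) g :=
    IsPullback.of_map (Over.forget _) (Over.OverMorphism.ext pullback.condition)
      (IsPullback.of_hasPullback (quot R A G).left g.left)
  refine isCoarseModuli_fpFst hsq hπ
    (fun Ω _ _ t => ⟨(geomOrbits R A G t).1, fun x x' h => ((geomOrbits R A G t).2 x x' h).elim fun _ hg => hg.2⟩)
    fun N ψ hψ => ?_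
  let σ : G → (P ⟶ P) := fun k =>
    pullback.lift (pullback.fst (quot R A G).left g.left ≫ (rho R A G k).hom)
      (pullback.snd (quot R A G).left g.left) (by
        rw [Category.assoc, (isQuot R A G).inv, pullback.condition])
  have hσmul : ∀ a b, σ (a * b) = σ b ≫ σ a := fun a b => by
    apply pullback.hom_ext
    · simp only [σ, pullback.lift_fst, Category.assoc, pullback.lift_fst_assoc, IsQuot25.map_mul_hom]
    · simp only [σ, pullback.lift_snd, Category.assoc]
  have hσone : σ 1 = 𝟙 _ := by
    apply pullback.hom_ext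
    · simp only [σ, pullback.lift_fst, IsQuot25.map_one_hom, Category.comp_id, Category.id_comp]
    · simp only [σ, pullback.lift_snd, Category.id_comp]
  let ρ' : G →* Aut X'.left :=
    { toFun := fun k => ⟨σ k, σ k⁻¹, by rw [← hσmul, inv_mul_cancel, hσone]; rfl,
        by rw [← hσmul, mul_inv_cancel, hσone]; rfl⟩
      map_one' := Iso.ext hσone
      map_mul' := fun a b => Iso.ext (hσmul a b) }
  have hq : SGA1.IsQuot ρ' p₂.left :=
    IsQuot25.baseChange_flat (isQuot R A G) g.left _ _ (IsPullback.of_hasPullback (quot R A G).left g.left) ρ'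
      (fun k => pullback.lift_fst _ _ _) (fun k => pullback.lift_snd _ _ _)
  haveI : IsAffine X'.left := inferInstanceAs (IsAffine (pullback (quot R A G).left g.left))
  haveI : IsAffineHom X'.hom := isAffineHom_of_isAffine X'.hom
  refine ConstCat23.existsUnique_desc (f := p₂) hq fun k => ?_
  let x₁ : X' ⟶ X' := Over.homMk (σ k) (by
    show σ k ≫ pullback.fst (quot R A G).left g.left ≫ (specA R A).hom =
      pullback.fst (quot R A G).left g.left ≫ (specA R A).hom
    rw [← Over.w (quot R A G), pullback.condition_assoc, ← Category.assoc, pullback.lift_snd])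
  refine Agree.of_eq (a := x₁) (b := 𝟙 X') (hψ X' x₁ (𝟙 X') ⟨?_, p₁ ≫ gpt R A G k, ?_⟩)
  · exact Over.OverMorphism.ext ((pullback.lift_snd _ _ _).trans (Category.id_comp _).symm)
  · have e : lift (p₁ ≫ gpt R A G k) (𝟙 X' ≫ p₁) = p₁ ≫ lift (gpt R A G k) (𝟙 (X R A)) := by
      apply CartesianMonoidalCategory.hom_ext
      · rw [lift_fst, Category.assoc, lift_fst]
      · rw [lift_snd, Category.assoc, lift_snd, Category.id_comp, Category.comp_id]
    rw [e, Category.assoc, lift_gpt_act]
    exact Over.OverMorphism.ext (pullback.lift_fst _ _ _).symm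

end Groth.Agent.ConstCat23
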