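import Groth.Agent.Lib.StAlg16.UnivInj
import Groth.Agent.Lib.StAlg16.UnivTop
import Groth.Agent.Lib.StAlg16.DiagIff
import Groth.Agent.Lib.AlgSpace.PointsBC
import Groth.Prelude.Def_StCoarse

/-!
# Maps to a space which are bijective on geometric points
-/

set_option autoImplicit false
set_option linter.style.haveILetI false
set_option backward.isDefEq.respectTransparency false
set_option backward.isDefEq.respectTransparency.types false
universe u

open CategoryTheory CategoryTheory.Functor CategoryTheory.Limits AlgebraicGeometry Opposite AlgSt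
open Groth.Agent.StAlg16

namespace Groth.Agent.ConstCat23

variable {S : Scheme.{u}} {𝒳 : AlgSt.Cat S} {M : AlgSp.Sp S}

/-- The diagonal of a map bijective on geometric points is surjective. -/
theorem isSurjective_diag_of_geomPtBij (h𝒳 : FibCat.IsFibGrpd 𝒳.p) {π : 𝒳 ⥤ᵇ ofSp M}
    (h : GeomPtBij π) : AlgSt.IsSurjective (FibCat.diag π) := fun w => by
  obtain ⟨p, rfl⟩ := Points.mk_surjective w
  let Ω : Type u := AlgebraicClosure p.K
  let t : Spec (CommRingCat.of Ω) ⟶ S := Spec.map (CommRingCat.ofHom (algebraMap p.K Ω)) ≫ p.str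
  let d : Over.mk t ⟶ Over.mk p.str := Over.homMk (Spec.map (CommRingCat.ofHom (algebraMap p.K Ω))) rfl
  obtain ⟨o, φ, hφ⟩ := FC16.exists_lift
    (FC16.fp_isFibGrpd h𝒳 h𝒳 (Stk.isFibGrpd_ofPsh M.obj) π π) p.lies d
  haveI := hφ
  have hx : 𝒳.p.obj o.obj.fst = Over.mk t := IsHomLift.domain_eq (FibCat.fp π π).p d φ
  have hy : 𝒳.p.obj o.obj.snd = Over.mk t := ((FibCat.fpSnd π π).w_obj o).trans hx
  let x : 𝒳.p.Fiber (Over.mk t) := ⟨o.obj.fst, hx⟩
  let y : 𝒳.p.Fiber (Over.mk t) := ⟨o.obj.snd, hy⟩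
  haveI hl : (ofSp M).p.IsHomLift (𝟙 (𝒳.p.obj o.obj.fst)) o.obj.iso.hom := o.property
  have hf : o.obj.iso.hom.hom = _ := IsHomLift.fac' (ofSp M).p (𝟙 (𝒳.p.obj o.obj.fst)) o.obj.iso.hom
  have he : fibSec π x = fibSec π y := by
    show M.obj.map _ (π.obj o.obj.fst).sec = M.obj.map _ (π.obj o.obj.snd).sec
    rw [← o.obj.iso.hom.map_sec]
    refine (ConcreteCategory.congr_hom (M.obj.map_comp _ _).symm _).trans ?_
    congr 2
    rw [← op_comp, hf]
    simp
  obtain ⟨α⟩ := (h Ω t).2 x y he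
  let q : FPt 𝒳 := { K := Ω, str := t, obj := o.obj.fst, lies := hx }
  haveI : 𝒳.p.IsHomLift (𝟙 (Over.mk t)) α.hom.1 := α.hom.2
  haveI hπ : (ofSp M).p.IsHomLift (𝟙 (Over.mk t)) (π.map α.hom.1) :=
    BasedFunctor.preserves_isHomLift π _ α.hom.1
  have hk : (π.map α.hom.1).hom = _ := IsHomLift.fac' (ofSp M).p (𝟙 (Over.mk t)) (π.map α.hom.1)
  have hw : π.map (𝟙 o.obj.fst) ≫ o.obj.iso.hom =
      ((FibCat.diag π).obj o.obj.fst).obj.iso.hom ≫ π.map α.hom.1 := by
    rw [CategoryTheory.Functor.map_id, Category.id_comp]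
    show o.obj.iso.hom = 𝟙 _ ≫ π.map α.hom.1
    rw [Category.id_comp]
    apply Stk.EltObj.hom_ext
    rw [hf, hk]
    simp
  let k : (FibCat.diag π).obj o.obj.fst ⟶ o :=
    ObjectProperty.homMk { fst := 𝟙 o.obj.fst, snd := α.hom.1, w := hw }
  refine ⟨Points.mk q, ?_⟩
  let r : FPt (FibCat.fp π π) := { K := Ω, str := t, obj := o, lies := IsHomLift.domain_eq (FibCat.fp π π).p d φ }
  exact (Points.sound (q := r) ⟨q.map (FibCat.diag π), 𝟙 _, k, trivial⟩).trans
    (Points.sound ⟨r, 𝟙 _, φ, trivial⟩)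

/-- A universally closed map of schemes gives a universally closed functor. -/
theorem with_univClosed_yon {X Y : Over S} (f : X ⟶ Y) [UniversallyClosed f.left] :
    AlgSt.RepByAlgSpWith AlgSp.IsUnivClosedMor (ofSpMap ((AlgSp.yon S).map f)) := by
  have h := (AlgSp.repWith_yon_map_iff @UniversallyClosed f).2 ‹_›
  have hu : AlgSp.IsUnivClosedMor ((AlgSp.yon S).map f) :=
    (AlgSpace.repWith_universallyClosed_iff h.1).1 h
  refine StAlg.with_ofPshMap fun W ξ F' fst snd sq => ?_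
  obtain ⟨hF', hA⟩ := AlgSpace.isAlgSpaceP_pullback sq (AlgSpace.isAlgSpaceP_pyon X)
    (AlgSpace.isAlgSpaceP_pyon W) (AlgSpace.isAlgSpaceP_pyon Y)
  exact ⟨hF', hA, AlgSpDescent.univSp_of_isPullback
    (a := (ObjectProperty.homMk fst : (⟨F', hF'⟩ : AlgSp.Sp S) ⟶ (AlgSp.yon S).obj X))
    (b := (ObjectProperty.homMk ξ : (AlgSp.yon S).obj W ⟶ (AlgSp.yon S).obj Y))
    (f := (AlgSp.yon S).map f)
    (f' := (ObjectProperty.homMk snd : (⟨F', hF'⟩ : AlgSp.Sp S) ⟶ (AlgSp.yon S).obj W))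
    (IsPullback.of_map_of_faithful (sheafToPresheaf (AlgSp.J S) (Type (u + 1))) sq) hu⟩

/-- A map to a space, bijective on geometric points, covered by a universally closed surjection of schemes,
is a universal homeomorphism. -/
theorem isUnivHomeo_of_geomPtBij (h𝒳 : IsAlgStack Scheme.fppfPrecoverage 𝒳) {X Y : Over S} (f : X ⟶ Y)
    [UniversallyClosed f.left] [Surjective f.left] (q : ofSch X ⥤ᵇ 𝒳) (hq : AlgSt.IsSurjective q)
    (π : 𝒳 ⥤ᵇ ofSch Y) (hπ : BasedFunctor.comp q π = ofSpMap ((AlgSp.yon S).map f)) (hgeo : GeomPtBij π) :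
    AlgSt.IsUnivHomeo Scheme.fppfPrecoverage π := fun 𝒵 h𝒵 g => by
  have hX := isAlgStack_ofSp (AlgSp.IsAlgSpace.yon_obj X)
  have hY := isAlgStack_ofSp (AlgSp.IsAlgSpace.yon_obj Y)
  have hA := isAlgStack_fp' h𝒵 h𝒳 hY g π
  have hB := isAlgStack_fp' h𝒵 hX hY g (BasedFunctor.comp q π)
  have hc := with_univClosed_yon f
  have hcl : IsClosedMap (Points.map (FibCat.fpFst g (BasedFunctor.comp q π))) := by
    rw [hπ]
    exact (with_univ_iff topP_isClosedMap hX hY (fun U y => (hc U y).elim fun F h => h.elim fun e he => ⟨F, e, he.1⟩)).1 hc 𝒵 h𝒵 g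
  have hs₀ : AlgSt.IsSurjective (BasedFunctor.comp q π) := by
    rw [hπ]
    refine (surjective_map_ofSpMap _).2 ?_
    rw [AlgSp.Points.map_yon_map_eq]
    exact (AlgSp.Points.schemeHomeo Y).surjective.comp (f.left.surjective.comp (Homeomorph.surjective _))
  have hs : AlgSt.IsSurjective π := fun y => by
    obtain ⟨x, rfl⟩ := hs₀ y
    exact ⟨Points.map q x, (map_comp_apply q π x).symm⟩
  let F := Points.map (FibCat.fpFst g π)
  let E := Points.map (FibCat.fpFst (FibCat.fpSnd g π) q)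
  have hE : Function.Surjective E :=
    isSurjective_fpFst hX.isStack.1 h𝒳.isStack.1 hA.isStack.1 (FibCat.fpSnd g π) hq
  have hFc : Continuous F := continuous_map h𝒵 _
  have hEc : Continuous E := continuous_map hA _
  let P := Points.map (FC16.pasteR g π q)
  have hP : IsHomeomorph P :=
    (equivHomeo (isAlgStack_fp' hA hX h𝒳 (FibCat.fpSnd g π) q) hB (FC16.pasteR_isEquivOver g π q)).isHomeomorph
  have hFE : ∀ z, F (E z) = Points.map (FibCat.fpFst g (BasedFunctor.comp q π)) (P z) := fun z => by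
    simp only [F, E, P, ← StAlg16.map_comp_apply]
    rfl
  have hclosed : IsClosedMap F := fun C hC => by
    have : F '' C = (Points.map (FibCat.fpFst g (BasedFunctor.comp q π)) ∘ P) '' (E ⁻¹' C) := by
      rw [show Points.map (FibCat.fpFst g (BasedFunctor.comp q π)) ∘ P = F ∘ E from funext fun z => (hFE z).symm,
        Set.image_comp, Set.image_preimage_eq _ hE]
    rw [this]
    exact (hcl.comp hP.isClosedMap) _ (hC.preimage hEc)
  have hinj : AlgSt.IsUnivInjective Scheme.fppfPrecoverage π :=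
    isUnivInjective_of_isSurjective_diag h𝒳.isStack.1 hY.isStack.1
      (isSurjective_diag_of_geomPtBij h𝒳.isStack.1 hgeo)
  exact isHomeomorph_iff_continuous_isClosedMap_bijective.2
    ⟨hFc, hclosed, hinj 𝒵 h𝒵 g, isSurjective_fpFst h𝒳.isStack.1 hY.isStack.1 h𝒵.isStack.1 g hs⟩

end Groth.Agent.ConstCat23
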