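import Groth.Agent.Lib.ConstCat23.Space
import Groth.Prelude.Def_ConstAct2
import Groth.Prelude.Def_SGA1
import Groth.Agent.S12059

/-!
# The quotient of an affine scheme by a finite group
-/

set_option autoImplicit false
set_option linter.style.haveILetI false
set_option backward.isDefEq.respectTransparency.types false
universe u

open CategoryTheory MonoidalCategory CartesianMonoidalCategory AlgebraicGeometry AlgSp ConstAct

namespace Groth.Agent.ConstCat23

/-- Points over algebraically closed fields lift along integral surjections. -/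
theorem exists_lift_integral {W E : Scheme.{u}} (b : W ⟶ E) [IsIntegralHom b] [Surjective b] {K : Type u}
    [Field K] [IsAlgClosed K] (a : Spec (CommRingCat.of K) ⟶ E) :
    ∃ m : Spec (CommRingCat.of K) ⟶ W, m ≫ b = a := by
  let P := Limits.pullback a b
  haveI : IsIntegralHom (Limits.pullback.fst a b) := MorphismProperty.pullback_fst _ _ ‹_›
  haveI : IsAffine P := isAffine_of_isAffineHom (Limits.pullback.fst a b)
  haveI : Nonempty ↥P := by
    obtain ⟨w, hw⟩ := b.surjective (a default)
    obtain ⟨z, -⟩ := Scheme.Pullback.exists_preimage_pullback (f := a) (g := b) _ _ hw.symm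
    exact ⟨z⟩
  let φ := Spec.preimage (P.isoSpec.inv ≫ Limits.pullback.fst a b)
  have hφ : Spec.map φ = P.isoSpec.inv ≫ Limits.pullback.fst a b := Spec.map_preimage _
  have hint : φ.hom.IsIntegral := IsIntegralHom.SpecMap_iff.1 (by rw [hφ]; infer_instance)
  haveI : Nontrivial Γ(P, ⊤) :=
    PrimeSpectrum.nonempty_iff_nontrivial.1 (Nonempty.map P.isoSpec.hom ‹Nonempty ↥P›)
  obtain ⟨m, hm⟩ := Ideal.exists_maximal Γ(P, ⊤)
  let q : K →+* Γ(P, ⊤) ⧸ m := (Ideal.Quotient.mk m).comp φ.hom
  have hq : q.IsIntegral := RingHom.IsIntegral.trans _ _ hint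
    (RingHom.isIntegral_of_surjective _ Ideal.Quotient.mk_surjective)
  letI := Ideal.Quotient.field m
  letI := q.toAlgebra
  haveI : Algebra.IsIntegral K (Γ(P, ⊤) ⧸ m) := ⟨hq⟩
  let e := RingEquiv.ofBijective (algebraMap K (Γ(P, ⊤) ⧸ m))
    IsAlgClosed.algebraMap_bijective_of_isIntegral
  let ψ : Γ(P, ⊤) ⟶ CommRingCat.of K := CommRingCat.ofHom (e.symm.toRingHom.comp (Ideal.Quotient.mk m))
  have hψ : φ ≫ ψ = 𝟙 _ := by
    ext x
    exact e.symm_apply_apply x
  refine ⟨Spec.map ψ ≫ P.isoSpec.inv ≫ Limits.pullback.snd a b, ?_⟩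
  rw [Category.assoc, Category.assoc, ← Limits.pullback.condition, ← Category.assoc P.isoSpec.inv, ← hφ,
    ← Category.assoc, ← Spec.map_comp, hψ, Spec.map_id, Category.id_comp]

variable (R : Type u) [CommRing R] (A : Type u) [CommRing A] [Algebra R A]
  (G : Type u) [Group G] [Fintype G] [DecidableEq G] [MulSemiringAction G A] [SMulCommClass G R A]

/-- The left action on `Spec A`. -/
noncomputable def rho : G →* Aut (specA R A).left where
  toFun g :=
    { hom := (act R A G g⁻¹).left
      inv := (act R A G g).left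
      hom_inv_id := by rw [← Over.comp_left, ← act_mul, inv_mul_cancel, act_one]; rfl
      inv_hom_id := by rw [← Over.comp_left, ← act_mul, mul_inv_cancel, act_one]; rfl }
  map_one' := Iso.ext (by
    show (act R A G (1 : G)⁻¹).left = 𝟙 _
    rw [inv_one, act_one]; rfl)
  map_mul' g h := Iso.ext (by
    show (act R A G (g * h)⁻¹).left = (act R A G h⁻¹).left ≫ (act R A G g⁻¹).left
    rw [mul_inv_rev, act_mul]; rfl)

omit [Fintype G] [DecidableEq G] in
theorem rho_hom (g : G) : (rho R A G g).hom = (act R A G g⁻¹).left := rfl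

omit [DecidableEq G] in
theorem isQuot : SGA1.IsQuot (rho R A G) (quot R A G).left := by
  haveI : SMulCommClass G ↥(inv R A G) A := ⟨fun g b a => by
    show g • ((b : A) * a) = (b : A) * (g • a)
    rw [smul_mul', (mem_inv R A G _).1 b.2 g]⟩
  haveI : Algebra.IsInvariant ↥(inv R A G) A G := ⟨fun a ha => ⟨⟨a, ha⟩, rfl⟩⟩
  haveI : FaithfulSMul ↥(inv R A G) A :=
    (faithfulSMul_iff_algebraMap_injective _ _).2 Subtype.val_injective
  exact Groth.Agent.S12059.result G A ↥(inv R A G) (rho R A G) (by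
    ext φ
    constructor
    · rintro ⟨g, rfl⟩
      exact ⟨g⁻¹, rfl⟩
    · rintro ⟨g, rfl⟩
      refine ⟨g⁻¹, ?_⟩
      show (act R A G g⁻¹⁻¹).left = _
      rw [inv_inv]; rfl)

/-- The point of the group given by an element. -/
noncomputable def gpt (g : G) : X R A ⟶ GR R G := CoactBr.pt (constPt R G (K := A) g)

theorem lift_gpt_act (g : G) :
    lift (gpt R A G g) (𝟙 (X R A)) ≫ (gaction R A G).act = act R A G g⁻¹ := by
  have h := gaction_constPt R A G g (AlgHom.id R A)
  rw [show CoactBr.pt (AlgHom.id R A) = 𝟙 (X R A) from Over.OverMorphism.ext (Spec.map_id _)] at h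
  exact h.trans (Category.id_comp _)

theorem existsUnique_desc_affine (N : Space (Spec (CommRingCat.of R))) (ψ : (yon _).obj (X R A) ⟶ N.obj)
    (hψ : (yon _).map (gaction R A G).act ≫ ψ = (yon _).map (snd (GR R G) (X R A)) ≫ ψ) :
    ∃! χ : (yon _).obj (specInv R A G) ⟶ N.obj, (yon _).map (quot R A G) ≫ χ = ψ := by
  refine ConstCat23.existsUnique_desc (X := specA R A) (isQuot R A G) fun g => ?_
  have h := congrArg ((yon _).map (lift (gpt R A G g) (𝟙 (X R A))) ≫ ·) hψ
  simp only [← Category.assoc, ← Functor.map_comp, lift_gpt_act, lift_snd] at h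
  exact Agree.of_eq (a := act R A G g⁻¹) (b := 𝟙 (specA R A)) h

theorem geomOrbits {Ω : Type u} [Field Ω] [IsAlgClosed Ω]
    (t : Spec (CommRingCat.of Ω) ⟶ Spec (CommRingCat.of R)) :
    (∀ y : Over.mk t ⟶ specInv R A G, ∃ x : Over.mk t ⟶ X R A, x ≫ quot R A G = y) ∧
    (∀ x x' : Over.mk t ⟶ X R A, x ≫ quot R A G = x' ≫ quot R A G →
      ∃ g₀ : G, x' ≫ act R A G g₀⁻¹ = x ∧
        ∃ g : Over.mk t ⟶ GR R G, lift g x' ≫ (gaction R A G).act = x) := by
  have hp := isQuot R A G
  haveI : Surjective (quot R A G).left := ⟨IsQuot25.surjective hp⟩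
  haveI : IsIntegralHom (quot R A G).left := IsQuot25.isIntegralHom hp
  refine ⟨fun y => ?_, fun x x' h => ?_⟩
  · obtain ⟨m, hm⟩ := exists_lift_integral (quot R A G).left y.left
    refine ⟨Over.homMk m ?_, Over.OverMorphism.ext hm⟩
    show m ≫ (specA R A).hom = t
    rw [← Over.w (quot R A G), reassoc_of% hm]
    exact Over.w y
  · obtain ⟨g, hg⟩ := IsQuot25.exists_act_of_comp_eq hp x'.left x.left
      (congrArg CommaMorphism.left h.symm)
    have e : x' ≫ act R A G g⁻¹ = x := Over.OverMorphism.ext hg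
    refine ⟨g, e, x' ≫ gpt R A G g, ?_⟩
    refine Eq.trans ?_ ((congrArg (fun k : X R A ⟶ X R A => x' ≫ k) (lift_gpt_act R A G g)).trans e)
    refine Eq.trans ?_ (Category.assoc _ _ _)
    congr 1
    apply CartesianMonoidalCategory.hom_ext
    · rw [lift_fst, Category.assoc, lift_fst]
    · rw [lift_snd, Category.assoc, lift_snd]; exact (Category.comp_id _).symm

/-- The quotient map is invariant for the action of the constant group scheme. -/
theorem gaction_quot : (gaction R A G).act ≫ quot R A G = snd (GR R G) (X R A) ≫ quot R A G := by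
  letI := comod R A G
  haveI := isCoactAlg R A G
  rw [gaction_eq, CoactBr.action_act_comp_eq_iff]
  refine Over.OverMorphism.ext ?_
  show (CoactBr.ract R (ConstGrp.F R G) A).left ≫ (quot R A G).left =
    Limits.pullback.fst (CoactBr.sp R A).hom (CoactBr.sp R (ConstGrp.F R G)).hom ≫ (quot R A G).left
  refine Eq.trans (Category.assoc _ _ _) ?_
  refine Eq.trans ?_ (congrArg (· ≫ (quot R A G).left) (pullbackSpecIso_hom_fst R A (ConstGrp.F R G)))
  refine Eq.trans ?_ (Category.assoc _ _ _).symm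
  refine congrArg ((pullbackSpecIso R A (ConstGrp.F R G)).hom ≫ ·) ?_
  show Spec.map _ ≫ Spec.map _ = Spec.map _ ≫ Spec.map _
  rw [← Spec.map_comp, ← Spec.map_comp]
  congr 1
  refine CommRingCat.hom_ext (RingHom.ext fun b => ?_)
  show coactLin R A G (b : A) = (b : A) ⊗ₜ[R] (1 : ConstGrp.F R G)
  rw [coactLin_apply]
  simp only [(mem_inv R A G _).1 b.2]
  rw [← TensorProduct.tmul_sum, ConstGrp.sum_e]

omit [DecidableEq G] in
/-- Geometric fibres of the ring map are the orbits. -/
theorem algHom_orbits (Ω : Type u) [Field Ω] [IsAlgClosed Ω] [Algebra R Ω] :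
    (∀ y : ↥(inv R A G) →ₐ[R] Ω, ∃ x : A →ₐ[R] Ω, x.comp (inv R A G).val = y) ∧
    (∀ x x' : A →ₐ[R] Ω, x.comp (inv R A G).val = x'.comp (inv R A G).val →
      ∃ g : G, x' = x.comp (MulSemiringAction.toAlgEquiv R A g : A →ₐ[R] A)) := by
  classical
  let t := Spec.map (CommRingCat.ofHom (algebraMap R Ω))
  have hq : quot R A G = CoactBr.pt (inv R A G).val := Over.OverMorphism.ext rfl
  have hk := geomOrbits R A G (Ω := Ω) t
  refine ⟨fun y => ?_, fun x x' h => ?_⟩
  · obtain ⟨x₀, hx⟩ := hk.1 (CoactBr.pt y)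
    let φ := Spec.preimage x₀.left
    have hw : CommRingCat.ofHom (algebraMap R A) ≫ φ = CommRingCat.ofHom (algebraMap R Ω) := by
      apply Spec.map_injective
      rw [Spec.map_comp, Spec.map_preimage]
      exact Over.w x₀
    let x : A →ₐ[R] Ω := { φ.hom with commutes' := fun r => congr($hw r) }
    have hxe : CoactBr.pt x = x₀ := Over.OverMorphism.ext (Spec.map_preimage x₀.left)
    exact ⟨x, CoactBr.pt_injective (by rw [CoactBr.pt_comp, hxe, ← hq]; exact hx)⟩
  · obtain ⟨g, hg, -⟩ := hk.2 (CoactBr.pt x') (CoactBr.pt x) (by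
      have e := congrArg CoactBr.pt h
      rw [CoactBr.pt_comp, CoactBr.pt_comp, ← hq] at e
      exact e.symm)
    refine ⟨g⁻¹, CoactBr.pt_injective ?_⟩
    rw [← hg, pt_comp_toAlgEquiv]
    rfl

end Groth.Agent.ConstCat23
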