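import Groth.Agent.Lib.ConstCat23.Datum
import Groth.Agent.Lib.IsQuot25.FlatBC
import Groth.Agent.Lib.IsQuot25.Desc
import Groth.Agent.Lib.IsQuot25.Points
import Groth.Agent.Lib.HTop25.Basic
import Groth.Agent.Lib.AlgSpDescent.FormallyLift
import Groth.Agent.Lib.AlgSpace.Diag

/-!
# Finite group quotients are categorical quotients in algebraic spaces
-/

set_option autoImplicit false
set_option linter.style.haveILetI false
set_option backward.isDefEq.respectTransparency.types false
universe u

open CategoryTheory CategoryTheory.Limits AlgebraicGeometry Opposite AlgSp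

namespace Groth.Agent.ConstCat23

variable {S : Scheme.{u}}

/-- The locus where two points of an algebraic space agree. -/
theorem exists_eqLocus (N : Space S) {T : Over S} (a b : (yon S).obj T ⟶ N.obj) :
    ∃ (E : Over S) (j : E ⟶ T), Mono j.left ∧ LocallyOfFiniteType j.left ∧
      (yon S).map j ≫ a = (yon S).map j ≫ b ∧
      ∀ (W : Over S) (c : W ⟶ T), (yon S).map c ≫ a = (yon S).map c ≫ b → ∃ c' : W ⟶ E, c' ≫ j = c := by
  have hd := N.property.diag
  let l := prod.lift a b
  have sq := hd.isPullback l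
  refine ⟨hd.pullback l, hd.snd l, (AlgSpace.repWith_diag_mono hd).2 l _ _ sq,
    (AlgSpace.repWith_diag_lft N.property).2 l _ _ sq, ?_, fun W c hc => ?_⟩
  · have e₁ := sq.w =≫ prod.fst
    have e₂ := sq.w =≫ prod.snd
    simp only [l, Category.assoc, prod.lift_fst, prod.lift_snd, Category.comp_id] at e₁ e₂
    exact e₁.symm.trans e₂
  · refine ⟨(yon S).preimage (sq.lift ((yon S).map c ≫ a) ((yon S).map c) ?_), ?_⟩
    · apply Limits.prod.hom_ext
      · simp only [l, Category.assoc, prod.lift_fst, Category.comp_id]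
      · simp only [l, Category.assoc, prod.lift_snd, Category.comp_id, hc]
    · apply (yon S).map_injective
      rw [Functor.map_comp, Functor.map_preimage, sq.lift_snd]

variable {X : Over S} (N : Space S) (ψ : (yon S).obj X ⟶ N.obj)

/-- Two points with the same image in the space. -/
def Agree {T : Scheme.{u}} (a b : T ⟶ X.left) : Prop :=
  ∃ (t : T ⟶ S) (ha : a ≫ X.hom = t) (hb : b ≫ X.hom = t),
    (yon S).map (Over.homMk a ha : Over.mk t ⟶ X) ≫ ψ = (yon S).map (Over.homMk b hb) ≫ ψ

variable {N ψ}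

theorem Agree.eq {T : Over S} {a b : T ⟶ X} (h : Agree N ψ a.left b.left) :
    (yon S).map a ≫ ψ = (yon S).map b ≫ ψ := by
  obtain ⟨t, ha, hb, e⟩ := h
  obtain rfl : T.hom = t := (Over.w a).symm.trans ha
  exact e

theorem Agree.of_eq {T : Over S} {a b : T ⟶ X} (h : (yon S).map a ≫ ψ = (yon S).map b ≫ ψ) :
    Agree N ψ a.left b.left :=
  ⟨T.hom, Over.w a, Over.w b, h⟩

theorem Agree.comp {T T' : Scheme.{u}} (c : T' ⟶ T) {a b : T ⟶ X.left} (h : Agree N ψ a b) :
    Agree N ψ (c ≫ a) (c ≫ b) := by
  obtain ⟨t, ha, hb, e⟩ := h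
  let ca : Over.mk (c ≫ t) ⟶ Over.mk t := Over.homMk c rfl
  have := congrArg ((yon S).map ca ≫ ·) e
  simp only [← Category.assoc, ← Functor.map_comp] at this
  exact Agree.of_eq (a := ca ≫ Over.homMk a ha) (b := ca ≫ Over.homMk b hb) this

variable {Y : Over S} {f : X ⟶ Y} {G : Type u} [Group G] [Finite G] {ρ : G →* Aut X.left}

/-- Maps to an algebraic space are determined on a flat base change of the quotient. -/
theorem eq_of_quot (hp : SGA1.IsQuot ρ f.left) {C P : Over S} {c : C ⟶ Y} [Flat c.left] {pX : P ⟶ X}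
    {pC : P ⟶ C} (sq : IsPullback pX.left pC.left f.left c.left) (χ χ' : (yon S).obj C ⟶ N.obj)
    (h : (yon S).map pC ≫ χ = (yon S).map pC ≫ χ') : χ = χ' := by
  obtain ⟨E, j, hj, -, hje, hju⟩ := exists_eqLocus N χ χ'
  obtain ⟨l, hl⟩ := hju P pC h
  haveI := hj
  let σ : G → (P.left ⟶ P.left) := fun g => sq.lift (pX.left ≫ (ρ g).hom) pC.left (by
    rw [Category.assoc, hp.inv, sq.w])
  have hσ₁ : ∀ g, σ g ≫ pX.left = pX.left ≫ (ρ g).hom := fun g => sq.lift_fst _ _ _
  have hσ₂ : ∀ g, σ g ≫ pC.left = pC.left := fun g => sq.lift_snd _ _ _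
  have hσmul : ∀ g h, σ (g * h) = σ h ≫ σ g := fun g h => by
    apply sq.hom_ext
    · rw [hσ₁, Category.assoc, hσ₁, reassoc_of% hσ₁ h, IsQuot25.map_mul_hom]
    · rw [hσ₂, Category.assoc, hσ₂, hσ₂]
  have hσone : σ 1 = 𝟙 P.left := sq.hom_ext (by rw [hσ₁, IsQuot25.map_one_hom]; simp) (by rw [hσ₂]; simp)
  let ρ' : G →* Aut P.left :=
    { toFun := fun g => ⟨σ g, σ g⁻¹, by rw [← hσmul, inv_mul_cancel, hσone],
        by rw [← hσmul, mul_inv_cancel, hσone]⟩
      map_one' := Iso.ext hσone
      map_mul' := fun g h => Iso.ext (hσmul g h) }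
  have hq : SGA1.IsQuot ρ' pC.left := IsQuot25.baseChange_flat hp c.left pX.left pC.left sq ρ' hσ₁ hσ₂
  have hlj : l.left ≫ j.left = pC.left := congrArg CommaMorphism.left hl
  obtain ⟨m, hm, -⟩ := IsQuot25.desc_unique hq l.left fun g => by
    rw [← cancel_mono j.left, Category.assoc, hlj]
    exact hσ₂ g
  have hmj : m ≫ j.left = 𝟙 C.left := IsQuot25.hom_ext hq (by
    rw [← Category.assoc, hm, hlj, Category.comp_id])
  let m' : C ⟶ E := Over.homMk m (by rw [← Over.w j, reassoc_of% hmj])
  have hm' : m' ≫ j = 𝟙 C := Over.OverMorphism.ext hmj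
  have := congrArg ((yon S).map m' ≫ ·) hje
  simp only [← Category.assoc, ← Functor.map_comp, hm'] at this
  rwa [CategoryTheory.Functor.map_id, Category.id_comp, Category.id_comp] at this

/-- Points with the same image in the quotient agree on a surjective closed subscheme. -/
theorem exists_agree_cover [IsSeparated X.hom] (hp : SGA1.IsQuot ρ f.left)
    (hψ : ∀ g : G, Agree N ψ (ρ g).hom (𝟙 X.left)) {T : Scheme.{u}} (a b : T ⟶ X.left)
    (h : a ≫ f.left = b ≫ f.left) :
    ∃ (E : Scheme.{u}) (i : E ⟶ T), IsClosedImmersion i ∧ Surjective i ∧ Agree N ψ (i ≫ a) (i ≫ b) := by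
  have ht : a ≫ X.hom = b ≫ X.hom := by rw [← Over.w f, reassoc_of% h]
  let t := a ≫ X.hom
  let a' : Over.mk t ⟶ X := Over.homMk a rfl
  let b' : Over.mk t ⟶ X := Over.homMk b ht.symm
  obtain ⟨E, j, hjm, hjf, hje, hju⟩ := exists_eqLocus N ((yon S).map a' ≫ ψ) ((yon S).map b' ≫ ψ)
  haveI := hjm
  haveI := hjf
  let d : G → (T ⟶ pullback X.hom X.hom) := fun g => pullback.lift (a ≫ (ρ g).hom) b (by
    obtain ⟨t', h₁, h₂, -⟩ := hψ g
    rw [Category.assoc, h₁, ← h₂, Category.id_comp, ht])
  let k : ∀ g, pullback (d g) (pullback.diagonal X.hom) ⟶ T := fun g => pullback.fst _ _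
  have hk : ∀ g, (k g ≫ a) ≫ (ρ g).hom = k g ≫ b := by
    intro g
    have e := pullback.condition (f := d g) (g := pullback.diagonal X.hom)
    have e₁ := congrArg (· ≫ pullback.fst X.hom X.hom) e
    have e₂ := congrArg (· ≫ pullback.snd X.hom X.hom) e
    simp only [d, Category.assoc, pullback.lift_fst, pullback.lift_snd, pullback.diagonal_fst,
      pullback.diagonal_snd, Category.comp_id] at e₁ e₂
    rw [Category.assoc]
    exact e₁.trans e₂.symm
  have hl : ∀ g, ∃ l : pullback (d g) (pullback.diagonal X.hom) ⟶ E.left, l ≫ j.left = k g := by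
    intro g
    let kk : Over.mk (k g ≫ t) ⟶ Over.mk t := Over.homMk (k g) rfl
    obtain ⟨l, hl⟩ := hju _ kk (by
      have := (hψ g).comp (k g ≫ a)
      rw [hk g, Category.comp_id] at this
      simp only [← Category.assoc, ← Functor.map_comp]
      exact (Agree.eq (a := kk ≫ b') (b := kk ≫ a') this).symm)
    exact ⟨l.left, congrArg CommaMorphism.left hl⟩
  choose l hl using hl
  let K := Sigma.desc k
  have hcov : ∀ p, ∃ g, p ∈ Set.range (k g) := by
    intro p
    let ξ := T.fromSpecResidueField p
    obtain ⟨g, hg⟩ := IsQuot25.exists_act_of_comp_eq hp (ξ ≫ a) (ξ ≫ b) (by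
      rw [Category.assoc, h, Category.assoc])
    refine ⟨g, (pullback.lift (f := d g) (g := pullback.diagonal X.hom) ξ (ξ ≫ b) ?_) default, ?_⟩
    · apply pullback.hom_ext
      · simp only [d, Category.assoc, pullback.lift_fst, pullback.diagonal_fst, Category.comp_id]
        exact (Category.assoc _ _ _).symm.trans hg
      · simp only [d, Category.assoc, pullback.lift_snd, pullback.diagonal_snd, Category.comp_id]
    · rw [← Scheme.Hom.comp_apply, pullback.lift_fst]
      exact Scheme.fromSpecResidueField_apply _ _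
  haveI : ∀ g, IsFinite (k g) := fun g => by
    haveI : IsClosedImmersion (k g) := MorphismProperty.pullback_fst _ _ inferInstance
    infer_instance
  haveI : IsFinite K := HTop25.isFinite_sigmaDesc k
  haveI : Surjective K := ⟨fun p => by
    obtain ⟨g, w, hw⟩ := hcov p
    exact ⟨Sigma.ι (fun g => pullback (d g) (pullback.diagonal X.hom)) g w, by
      rw [← Scheme.Hom.comp_apply, Sigma.ι_desc]; exact hw⟩⟩
  let L : (∐ fun g => pullback (d g) (pullback.diagonal X.hom)) ⟶ E.left := Sigma.desc l
  have hL : L ≫ j.left = K := Sigma.hom_ext _ _ fun g => by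
    simp only [L, K, Sigma.ι_desc_assoc, Sigma.ι_desc, hl]
  haveI : Surjective j.left := ⟨fun p => by
    obtain ⟨w, hw⟩ := K.surjective p
    exact ⟨L w, by rw [← Scheme.Hom.comp_apply, hL]; exact hw⟩⟩
  haveI : Surjective L := ⟨fun e => by
    obtain ⟨w, hw⟩ := K.surjective (j.left e)
    refine ⟨w, j.left.injective ?_⟩
    rw [← Scheme.Hom.comp_apply, hL]; exact hw⟩
  haveI : UniversallyClosed (L ≫ j.left) := by rw [hL]; infer_instance
  haveI : UniversallyClosed j.left := UniversallyClosed.of_comp_surjective L j.left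
  haveI : IsProper j.left := {}
  refine ⟨E.left, j.left, (IsClosedImmersion.iff_isProper_and_mono j.left).2 ⟨‹_›, hjm⟩, inferInstance, ?_⟩
  simp only [← Category.assoc, ← Functor.map_comp] at hje
  exact Agree.of_eq (a := j ≫ a') (b := j ≫ b') hje

/-- Finite group quotients are categorical quotients in algebraic spaces. -/
theorem existsUnique_desc [IsSeparated X.hom] (hp : SGA1.IsQuot ρ f.left)
    (hψ : ∀ g : G, Agree N ψ (ρ g).hom (𝟙 X.left)) :
    ∃! χ : (yon S).obj Y ⟶ N.obj, (yon S).map f ≫ χ = ψ := by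
  classical
  haveI : Surjective f.left := ⟨IsQuot25.surjective hp⟩
  haveI : IsIntegralHom f.left := IsQuot25.isIntegralHom hp
  have huniq : ∀ χ χ' : (yon S).obj Y ⟶ N.obj, (yon S).map f ≫ χ = (yon S).map f ≫ χ' → χ = χ' :=
    fun χ χ' h => by
      haveI : Flat (𝟙 Y : Y ⟶ Y).left := inferInstanceAs (Flat (𝟙 Y.left))
      exact eq_of_quot hp (c := 𝟙 Y) (pX := 𝟙 X) (pC := f) (IsPullback.of_horiz_isIso ⟨by simp⟩) χ χ' h
  obtain ⟨U, p, hpe, hps⟩ := N.property.atlas
  have hr := hpe.1
  let Z := hr.pullback ψ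
  let q : Z ⟶ X := hr.snd ψ
  obtain ⟨u, hu⟩ := (yon S).map_surjective (hr.fst ψ)
  have sq : IsPullback ((yon S).map u) ((yon S).map q) p ψ := hu ▸ hr.isPullback ψ
  haveI hqe : Etale q.left := hpe.2 ψ _ _ sq
  haveI hqs : Surjective q.left := hps.2 ψ _ _ sq
  have key : ∀ y : Y.left, ∃ (C : Over S) (c : C ⟶ Y) (P : Over S) (pX : P ⟶ X) (pC : P ⟶ C)
      (χ : (yon S).obj C ⟶ N.obj), Etale c.left ∧ y ∈ Set.range c.left ∧
      IsPullback pX.left pC.left f.left c.left ∧ (yon S).map pC ≫ χ = (yon S).map pX ≫ ψ := by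
    intro y
    obtain ⟨x, hx⟩ := f.left.surjective y
    obtain ⟨z, hz⟩ := q.left.surjective x
    obtain ⟨O, hO, hzO, -⟩ := exists_isAffineOpen_mem_and_subset (X := U.left) (x := u.left z) (U := ⊤) trivial
    haveI : IsAffine O.toScheme := hO
    let W := u.left ⁻¹ᵁ O
    let q' : W.toScheme ⟶ X.left := W.ι ≫ q.left
    let u' : W.toScheme ⟶ O.toScheme := u.left ∣_ O
    have hu' : u' ≫ O.ι = W.ι ≫ u.left := morphismRestrict_ι u.left O
    have hqu : q' ≫ X.hom = u' ≫ O.ι ≫ U.hom := by
      rw [← Category.assoc u', hu']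
      simp only [q', Category.assoc, Over.w]
      rfl
    have hext : ∀ ⦃T : Scheme.{u}⦄ (za zb : T ⟶ W.toScheme), za ≫ q' = zb ≫ q' → za ≫ u' = zb ≫ u' →
        za = zb := by
      intro T za zb h₁ h₂
      let t := za ≫ q' ≫ X.hom
      let za' : Over.mk t ⟶ Z := Over.homMk (za ≫ W.ι) (by
        rw [Category.assoc, ← Over.w q]; simp [t, q'])
      let zb' : Over.mk t ⟶ Z := Over.homMk (zb ≫ W.ι) (by
        show (zb ≫ W.ι) ≫ Z.hom = za ≫ q' ≫ X.hom
        rw [reassoc_of% h₁, Category.assoc, ← Over.w q]; simp [q'])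
      have : za' = zb' := (yon S).map_injective (sq.hom_ext (by
        rw [← Functor.map_comp, ← Functor.map_comp]
        refine congrArg (yon S).map (Over.OverMorphism.ext ?_)
        show (za ≫ W.ι) ≫ u.left = (zb ≫ W.ι) ≫ u.left
        rw [Category.assoc, Category.assoc, ← hu', reassoc_of% h₂]) (by
        rw [← Functor.map_comp, ← Functor.map_comp]
        refine congrArg (yon S).map (Over.OverMorphism.ext ?_)
        show (za ≫ W.ι) ≫ q.left = (zb ≫ W.ι) ≫ q.left
        simpa only [Category.assoc] using h₁))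
      exact (cancel_mono W.ι).1 (congrArg CommaMorphism.left this)
    haveI : Etale q' := inferInstanceAs (Etale (W.ι ≫ q.left))
    let m : W.toScheme ⟶ pullback X.hom (O.ι ≫ U.hom) := pullback.lift q' u' hqu
    haveI : Mono m := ⟨fun za zb h => hext za zb
      (by simpa [m, pullback.lift_fst] using congrArg (· ≫ pullback.fst _ _) h)
      (by simpa [m, pullback.lift_snd] using congrArg (· ≫ pullback.snd _ _) h)⟩
    haveI : IsSeparated (pullback.fst X.hom (O.ι ≫ U.hom)) :=
      MorphismProperty.pullback_fst _ _ inferInstance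
    haveI : IsSeparated q' := by
      rw [show q' = m ≫ pullback.fst _ _ from (pullback.lift_fst _ _ _).symm]
      infer_instance
    let D : Transport f.left q' u' :=
      { Ag := fun T a b => Agree N ψ a b
        comp := fun T T' c a b h => h.comp c
        refl := fun T a => ⟨_, rfl, rfl, rfl⟩
        symm := fun T a b h => by
          obtain ⟨t, ha, hb, e⟩ := h
          exact ⟨t, hb, ha, e.symm⟩
        trans := fun T a b c h h' => by
          obtain ⟨t, ha, hb, e⟩ := h
          obtain ⟨t', hb', hc, e'⟩ := h'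
          obtain rfl : t = t' := hb.symm.trans hb'
          exact ⟨t, ha, hc, e.trans e'⟩
        equ := fun T a b h => exists_agree_cover hp hψ a b h
        lift := fun T a b h za hza => by
          obtain ⟨t, ha, hb, e⟩ := h
          let za' : Over.mk t ⟶ Z := Over.homMk (za ≫ W.ι) (by
            show (za ≫ W.ι) ≫ Z.hom = t
            rw [← ha, ← hza, ← Over.w q]; simp [q'])
          let b' : Over.mk t ⟶ X := Over.homMk b hb
          let l := sq.lift ((yon S).map (za' ≫ u)) ((yon S).map b') (by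
            rw [Functor.map_comp, Category.assoc, sq.w, ← e, ← Category.assoc, ← Functor.map_comp]
            congr 2
            exact Over.OverMorphism.ext (by
              show (za ≫ W.ι) ≫ q.left = a
              rw [← hza]; simp [q']))
          obtain ⟨zb, hzb⟩ := (yon S).map_surjective l
          have e₁ : zb ≫ u = za' ≫ u := (yon S).map_injective (by
            rw [Functor.map_comp, hzb]; exact sq.lift_fst _ _ _)
          have e₂ : zb ≫ q = b' := (yon S).map_injective (by
            rw [Functor.map_comp, hzb]; exact sq.lift_snd _ _ _)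
          have e₁' : zb.left ≫ u.left = za ≫ W.ι ≫ u.left :=
            (congrArg CommaMorphism.left e₁).trans (Category.assoc _ _ _)
          have hrg : Set.range zb.left ⊆ Set.range W.ι := by
            rw [Scheme.Opens.range_ι]
            rintro _ ⟨p', rfl⟩
            show u.left (zb.left p') ∈ O
            rw [← Scheme.Hom.comp_apply, e₁', ← hu', ← Category.assoc, Scheme.Hom.comp_apply]
            exact ((za ≫ u') p').2
          let zc := IsOpenImmersion.lift W.ι zb.left hrg
          have hzc : zc ≫ W.ι = zb.left := IsOpenImmersion.lift_fac _ _ _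
          refine ⟨zc, ⟨?_, ?_⟩, fun z' hz' => hext _ _ ?_ ?_⟩
          · show zc ≫ W.ι ≫ q.left = b
            rw [reassoc_of% hzc]
            exact congrArg CommaMorphism.left e₂
          · rw [← cancel_mono O.ι, Category.assoc, Category.assoc, hu', reassoc_of% hzc]
            exact e₁'
          · rw [hz'.1]
            show b = zc ≫ W.ι ≫ q.left
            rw [reassoc_of% hzc]
            exact (congrArg CommaMorphism.left e₂).symm
          · rw [hz'.2, ← cancel_mono O.ι, Category.assoc, Category.assoc, hu', reassoc_of% hzc]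
            exact e₁'.symm }
    have hzW : z ∈ W := hzO
    obtain ⟨C₀, c₀, _, _, hy, s, hs, hsu⟩ := D.exists_local_section y ⟨⟨z, hzW⟩, by
      show f.left ((W.ι ≫ q.left) ⟨z, hzW⟩) = y
      rw [Scheme.Hom.comp_apply, ← hx, ← hz]; rfl⟩
    let C : Over S := Over.mk (c₀ ≫ Y.hom)
    let c : C ⟶ Y := Over.homMk c₀ rfl
    let P : Over S := Over.mk (pullback.fst f.left c₀ ≫ X.hom)
    let pX : P ⟶ X := Over.homMk (pullback.fst f.left c₀) rfl
    let pC : P ⟶ C := Over.homMk (pullback.snd f.left c₀) (by
      show pullback.snd f.left c₀ ≫ c₀ ≫ Y.hom = pullback.fst f.left c₀ ≫ X.hom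
      rw [← Over.w f, pullback.condition_assoc])
    let σ : G → (pullback f.left c₀ ⟶ pullback f.left c₀) := fun g =>
      pullback.lift (pullback.fst f.left c₀ ≫ (ρ g).hom) (pullback.snd f.left c₀) (by
        rw [Category.assoc, hp.inv, pullback.condition])
    have hσmul : ∀ g h, σ (g * h) = σ h ≫ σ g := fun g h => by
      apply pullback.hom_ext
      · simp only [σ, pullback.lift_fst, Category.assoc, pullback.lift_fst_assoc, IsQuot25.map_mul_hom]
      · simp only [σ, pullback.lift_snd, Category.assoc]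
    have hσone : σ 1 = 𝟙 _ := by
      apply pullback.hom_ext
      · simp only [σ, pullback.lift_fst, IsQuot25.map_one_hom, Category.comp_id, Category.id_comp]
      · simp [σ, pullback.lift_snd]
    let ρ' : G →* Aut (pullback f.left c₀) :=
      { toFun := fun g => ⟨σ g, σ g⁻¹, by rw [← hσmul, inv_mul_cancel, hσone],
          by rw [← hσmul, mul_inv_cancel, hσone]⟩
        map_one' := Iso.ext hσone
        map_mul' := fun g h => Iso.ext (hσmul g h) }
    haveI : Flat c₀ := inferInstance
    have hq : SGA1.IsQuot ρ' (pullback.snd f.left c₀) :=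
      IsQuot25.baseChange_flat hp c₀ _ _ (IsPullback.of_hasPullback f.left c₀) ρ'
        (fun g => pullback.lift_fst _ _ _) (fun g => pullback.lift_snd _ _ _)
    obtain ⟨t, ht, -⟩ := IsQuot25.desc_unique hq (s ≫ u') fun g => by
      have hA : D.Ag (σ g ≫ pullback.fst f.left c₀) (𝟙 _ ≫ pullback.fst f.left c₀) := by
        have := (hψ g).comp (pullback.fst f.left c₀)
        rw [Category.comp_id] at this
        simpa only [σ, pullback.lift_fst, Category.id_comp] using this
      have := hsu (σ g) (𝟙 _) (by simp [σ, pullback.lift_snd]) hA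
      show σ g ≫ s ≫ u' = s ≫ u'
      simpa only [Category.id_comp] using this
    let t' : C ⟶ U := Over.homMk (t ≫ O.ι) ((IsQuot25.hom_ext hq (by
      show pullback.snd f.left c₀ ≫ (t ≫ O.ι) ≫ U.hom = pullback.snd f.left c₀ ≫ c₀ ≫ Y.hom
      rw [Category.assoc, reassoc_of% ht, ← hqu, reassoc_of% hs, ← Over.w f, pullback.condition_assoc])))
    refine ⟨C, c, P, pX, pC, (yon S).map t' ≫ p, ‹Etale c₀›, hy,
      IsPullback.of_hasPullback f.left c₀, ?_⟩
    let sZ : P ⟶ Z := Over.homMk (s ≫ W.ι) (by
      show (s ≫ W.ι) ≫ Z.hom = pullback.fst f.left c₀ ≫ X.hom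
      rw [← hs, ← Over.w q]; simp [q'])
    have e₁ : pC ≫ t' = sZ ≫ u := Over.OverMorphism.ext (by
      show pullback.snd f.left c₀ ≫ t ≫ O.ι = (s ≫ W.ι) ≫ u.left
      rw [reassoc_of% ht, hu', Category.assoc])
    have e₂ : sZ ≫ q = pX := Over.OverMorphism.ext (by
      show (s ≫ W.ι) ≫ q.left = pullback.fst f.left c₀
      rw [Category.assoc]; exact hs)
    rw [← Category.assoc, ← Functor.map_comp, e₁, Functor.map_comp, Category.assoc, sq.w,
      ← Category.assoc, ← Functor.map_comp, e₂]
  choose C c P pX pC χ hce hcy hsq hχ using key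
  obtain ⟨m, hm⟩ := AlgSpDescent.exists_glue_etale C c hce (fun p => ⟨p, hcy p⟩) χ (by
    intro i j V a b hab
    let W := Limits.pullback (c i) (c j)
    have sqW := IsPullback.of_hasPullback (c i) (c j)
    haveI := hce i
    haveI := hce j
    haveI : Etale (pullback.fst (c i) (c j)).left :=
      MorphismProperty.of_isPullback (P := @Etale) (sqW.map (Over.forget S)).flip (hce j)
    let w : W ⟶ Y := pullback.fst (c i) (c j) ≫ c i
    haveI : Etale w.left := inferInstanceAs (Etale ((pullback.fst (c i) (c j)).left ≫ (c i).left))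
    haveI : Flat w.left := inferInstance
    let PW : Over S := Over.mk (pullback.fst f.left w.left ≫ X.hom)
    let qX : PW ⟶ X := Over.homMk (pullback.fst f.left w.left) rfl
    let qW : PW ⟶ W := Over.homMk (pullback.snd f.left w.left) (by
      show pullback.snd f.left w.left ≫ W.hom = pullback.fst f.left w.left ≫ X.hom
      rw [← Over.w w, ← Over.w f, pullback.condition_assoc])
    have key : ∀ (k : Y.left) (pr : W ⟶ C k), pr ≫ c k = w →
        (yon S).map qW ≫ (yon S).map pr ≫ χ k = (yon S).map qX ≫ ψ := by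
      intro k pr hpr
      let l : PW ⟶ P k := Over.homMk ((hsq k).lift (pullback.fst f.left w.left)
          (pullback.snd f.left w.left ≫ pr.left) (by
          rw [Category.assoc, ← Over.comp_left, hpr]; exact pullback.condition)) (by
        rw [← Over.w (pX k), ← Category.assoc, (hsq k).lift_fst]; rfl)
      have l₁ : l ≫ pX k = qX := Over.OverMorphism.ext ((hsq k).lift_fst _ _ _)
      have l₂ : l ≫ pC k = qW ≫ pr := Over.OverMorphism.ext ((hsq k).lift_snd _ _ _)
      rw [← Category.assoc, ← Functor.map_comp, ← l₂, Functor.map_comp, Category.assoc, hχ,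
        ← Category.assoc, ← Functor.map_comp, l₁]
    have e := eq_of_quot hp (c := w) (pX := qX) (pC := qW) (IsPullback.of_hasPullback f.left w.left)
      ((yon S).map (pullback.fst (c i) (c j)) ≫ χ i) ((yon S).map (pullback.snd (c i) (c j)) ≫ χ j)
      ((key i _ rfl).trans (key j _ pullback.condition.symm).symm)
    have := congrArg ((yon S).map (pullback.lift a b hab) ≫ ·) e
    simpa only [← Category.assoc, ← Functor.map_comp, pullback.lift_fst, pullback.lift_snd] using this)
  have hfm : (yon S).map f ≫ m = ψ := by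
    refine AlgSpDescent.eq_of_etale_nbhds fun x => ?_
    obtain ⟨z, hz⟩ := hcy (f.left x)
    obtain ⟨w, hw, -⟩ := Scheme.exists_preimage_of_isPullback (hsq (f.left x)) x z hz.symm
    refine ⟨P (f.left x), pX (f.left x), MorphismProperty.of_isPullback (P := @Etale) (hsq _).flip (hce _),
      ⟨w, hw⟩, ?_⟩
    have hsqO : pX (f.left x) ≫ f = pC (f.left x) ≫ c (f.left x) := Over.OverMorphism.ext (hsq _).w
    rw [← Category.assoc, ← Functor.map_comp, hsqO, Functor.map_comp, Category.assoc, hm, hχ]
  exact ⟨m, hfm, fun m' hm' => huniq m' m (hm'.trans hfm.symm)⟩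

end Groth.Agent.ConstCat23
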