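import Groth.Agent.Lib.Quot16.Coarse
import Groth.Prelude.Def_StMod2
import Mathlib.AlgebraicGeometry.Morphisms.Descent

/-!
# Functions on a quotient stack are the invariant functions
-/

set_option autoImplicit false
set_option linter.style.haveILetI false
set_option backward.isDefEq.respectTransparency false
set_option backward.isDefEq.respectTransparency.types false
universe u

open CategoryTheory CategoryTheory.Limits MonoidalCategory CartesianMonoidalCategory MonObj GrpObj
  AlgebraicGeometry Opposite AlgSt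
open Groth.Agent.Quot16

namespace Groth.Agent.ConstCat23

theorem appTop_inj_of_flat {U X : Scheme.{u}} (π : U ⟶ X) [Flat π] [Surjective π] :
    Function.Injective π.appTop.hom := by
  let A : CommRingCat.{u} := CommRingCat.of (Polynomial (ULift.{u} ℤ))
  haveI := Flat.epi_of_flat_of_surjective π
  intro a b hab
  let c : Γ(X, ⊤) → (A ⟶ Γ(X, ⊤)) := fun a => CommRingCat.ofHom
    (Polynomial.eval₂RingHom ((Int.castRingHom Γ(X, ⊤)).comp ULift.ringEquiv.toRingHom) a)
  have hc : c a ≫ π.appTop = c b ≫ π.appTop := by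
    ext1
    refine Polynomial.ringHom_ext (fun n => ?_) ?_
    · obtain ⟨n⟩ := n
      simp [c]
    · simpa [c] using hab
  have h : π ≫ X.toSpecΓ ≫ Spec.map (c a) = π ≫ X.toSpecΓ ≫ Spec.map (c b) := by
    simp only [Scheme.toSpecΓ_naturality_assoc, ← Spec.map_comp, hc]
  have h2 := congrArg (fun f => (Scheme.ΓSpecIso A).inv ≫ Scheme.Hom.appTop f) ((cancel_epi π).mp h)
  simp only [Scheme.Hom.comp_appTop, Scheme.toSpecΓ_appTop, ← Scheme.ΓSpecIso_inv_naturality_assoc,
    Iso.inv_hom_id, Category.comp_id] at h2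
  have h3 := ConcreteCategory.congr_hom h2 Polynomial.X
  exact ((Polynomial.eval₂_X _ _).symm.trans h3).trans (Polynomial.eval₂_X _ _)

variable {S : Scheme.{u}} {G : Over S} [GrpObj G] {X Y : Over S} {aX : AlgGrp.Action G X} {f : X ⟶ Y}
  {π : QuotSt Scheme.fppfPrecoverage G aX ⥤ᵇ ofSch Y}

variable {ζ : (ofSch Y).obj}

theorem baseOver_eq {A : (QuotSt Scheme.fppfPrecoverage G aX).obj} (α : π.obj A ⟶ ζ) :
    StMod.baseOver π A α = eqToHom (π.w_obj A).symm ≫ α.hom := rfl

theorem hom_ext_baseOver {A : (QuotSt Scheme.fppfPrecoverage G aX).obj} {α β : π.obj A ⟶ ζ}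
    (h : StMod.baseOver π A α = StMod.baseOver π A β) : α = β := by
  rw [baseOver_eq, baseOver_eq, cancel_epi] at h
  exact Stk.EltObj.hom_ext h

theorem baseOver_g (hπ : BasedFunctor.comp (quotMap Scheme.fppfPrecoverage G aX) π = ofSpMap ((AlgSp.yon S).map f))
    {W : Over S} (x : W ⟶ X) (α : π.obj (triv Scheme.fppfPrecoverage aX x) ⟶ ζ) :
    x ≫ f = StMod.baseOver π (triv Scheme.fppfPrecoverage aX x) α ≫ ζ.sec.down := by
  have e : α.hom ≫ ζ.sec.down = (π.obj (triv Scheme.fppfPrecoverage aX x)).sec.down :=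
    congrArg ULift.down α.map_sec
  have e' : eqToHom (π.w_obj (triv Scheme.fppfPrecoverage aX x)).symm ≫
      (π.obj (triv Scheme.fppfPrecoverage aX x)).sec.down = x ≫ f :=
    congrArg ULift.down (pval_triv x π hπ)
  rw [baseOver_eq, ← e', ← e]
  exact (Category.assoc _ _ _).symm

theorem exists_alpha (hπ : BasedFunctor.comp (quotMap Scheme.fppfPrecoverage G aX) π = ofSpMap ((AlgSp.yon S).map f))
    {W : Over S} (x : W ⟶ X) (b : W ⟶ ζ.base) (h : x ≫ f = b ≫ ζ.sec.down) :
    ∃ α : π.obj (triv Scheme.fppfPrecoverage aX x) ⟶ ζ, StMod.baseOver π (triv Scheme.fppfPrecoverage aX x) α = b := by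
  have e' : eqToHom (π.w_obj (triv Scheme.fppfPrecoverage aX x)).symm ≫
      (π.obj (triv Scheme.fppfPrecoverage aX x)).sec.down = x ≫ f :=
    congrArg ULift.down (pval_triv x π hπ)
  let α : π.obj (triv Scheme.fppfPrecoverage aX x) ⟶ ζ :=
    ⟨eqToHom (π.w_obj (triv Scheme.fppfPrecoverage aX x)) ≫ b, by
      refine ULift.ext _ _ ?_
      show (eqToHom _ ≫ b) ≫ ζ.sec.down = _
      rw [Category.assoc, ← h, ← e']
      simp⟩
  exact ⟨α, by rw [baseOver_eq]; simp [α]⟩

variable [Flat G.hom] [LocallyOfFinitePresentation G.hom] {X' : Over S} {p₁ : X' ⟶ X} {p₂ : X' ⟶ ζ.base}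

theorem unitSect_bijective
    (hπ : BasedFunctor.comp (quotMap Scheme.fppfPrecoverage G aX) π = ofSpMap ((AlgSp.yon S).map f))
    (hsq : IsPullback p₁ p₂ f ζ.sec.down) (hmono : Function.Injective p₂.left.appTop.hom)
    (hinv : ∀ a : Γ(X'.left, ⊤), (∀ σ : X' ⟶ X', σ ≫ p₂ = p₂ →
        (∃ k : X' ⟶ G, lift k (σ ≫ p₁) ≫ aX.act = p₁) → σ.left.appTop a = a) →
      a ∈ Set.range p₂.left.appTop.hom) :
    Function.Bijective (StMod.unitSect π ζ) := by
  obtain ⟨α₀, hα₀⟩ := exists_alpha (ζ := ζ) hπ p₁ p₂ hsq.w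
  refine ⟨fun r r' h => hmono ?_, fun s => ?_⟩
  · have e := congrFun (congrFun (congrArg Subtype.val h) (triv Scheme.fppfPrecoverage aX p₁)) α₀
    rw [StMod.unitSect_val, StMod.unitSect_val, hα₀] at e
    exact e
  · let a : Γ(X'.left, ⊤) := s.1 (triv Scheme.fppfPrecoverage aX p₁) α₀
    obtain ⟨r, hr⟩ := hinv a (fun σ hσ ⟨k, hk⟩ => by
      let pt : X' ⟶ (triv Scheme.fppfPrecoverage aX p₁).P := lift k σ
      have hpt : pt ≫ (triv Scheme.fppfPrecoverage aX p₁).φ = p₁ := by
        show lift k σ ≫ (G ◁ p₁) ≫ aX.act = p₁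
        rw [lift_whiskerLeft_assoc, hk]
      let φ := homOfPt (triv Scheme.fppfPrecoverage aX p₁) pt (x := p₁) hpt
      have hb : (QuotSt Scheme.fppfPrecoverage G aX).p.map φ = σ := lift_snd k σ
      have hα : π.map φ ≫ α₀ = α₀ := hom_ext_baseOver (by
        rw [← StMod.map_comp_baseOver, hα₀, hb]
        exact hσ)
      have e := s.2 φ α₀
      rw [StMod.O_mapTop, hα] at e
      rw [← hb]
      exact e)
    refine ⟨r, StMod.Mod.RelSect.ext _ _ _ fun A α => ?_⟩
    rw [StMod.unitSect_val]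
    haveI := π_flat A
    haveI := π_surjective A
    refine appTop_inj_of_flat A.π.left ?_
    let χ := homOfPt A (𝟙 A.P) (x := A.φ) (Category.id_comp _)
    have hχ : (QuotSt Scheme.fppfPrecoverage G aX).p.map χ = A.π := Category.id_comp _
    let b : A.P ⟶ ζ.base := StMod.baseOver π (triv Scheme.fppfPrecoverage aX A.φ) (π.map χ ≫ α)
    have hb : b = A.π ≫ StMod.baseOver π A α :=
      (StMod.map_comp_baseOver π χ α).symm.trans (congrArg (· ≫ StMod.baseOver π A α) hχ)
    have hx : A.φ ≫ f = b ≫ ζ.sec.down := baseOver_g hπ _ _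
    let h : A.P ⟶ X' := hsq.lift A.φ b hx
    have h₁ : h ≫ p₁ = A.φ := hsq.lift_fst _ _ _
    have h₂ : h ≫ p₂ = b := hsq.lift_snd _ _ _
    let pt : A.P ⟶ (triv Scheme.fppfPrecoverage aX p₁).P := h ≫ unitSec X'
    have hpt : pt ≫ (triv Scheme.fppfPrecoverage aX p₁).φ = A.φ := by
      show (h ≫ unitSec X') ≫ (G ◁ p₁) ≫ aX.act = A.φ
      rw [Category.assoc, unitSec_whisker_act, h₁]
    let ψ := homOfPt (triv Scheme.fppfPrecoverage aX p₁) pt (x := A.φ) hpt
    have hψ : (QuotSt Scheme.fppfPrecoverage G aX).p.map ψ = h := by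
      show (h ≫ unitSec X') ≫ snd G X' = h
      rw [Category.assoc, unitSec_snd, Category.comp_id]
    have hα : π.map ψ ≫ α₀ = π.map χ ≫ α := hom_ext_baseOver (by
      rw [← StMod.map_comp_baseOver, hα₀, hψ]
      exact h₂)
    have e₁ := s.2 ψ α₀
    have e₂ := s.2 χ α
    rw [StMod.O_mapTop, hα] at e₁
    rw [StMod.O_mapTop, ← e₁] at e₂
    unfold StMod.bmap at e₂
    rw [hψ, hχ] at e₂
    refine Eq.trans ?_ e₂.symm
    show A.π.left.appTop ((StMod.baseOver π A α).left.appTop r) = h.left.appTop a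
    rw [← hr]
    have hc : ∀ {U V W : Over S} (m : U ⟶ V) (n : V ⟶ W) (x : Γ(W.left, ⊤)),
        (m ≫ n).left.appTop x = m.left.appTop (n.left.appTop x) := fun m n x => by
      rw [Over.comp_left, Scheme.Hom.comp_appTop]
      rfl
    exact (hc A.π (StMod.baseOver π A α) r).symm.trans
      ((congrArg (fun m : A.P ⟶ ζ.base => m.left.appTop r) (hb.symm.trans h₂.symm)).trans (hc h p₂ r))

end Groth.Agent.ConstCat23
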